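import Cfsg.Agent.Lib.PGroup.ThreeSizesCoprime.Tools
import Cfsg.Agent.S4134

/-!
Class sizes `1, m, m n` with coprime `m, n`: basic facts, the Sylow structure of the centralizer of
a noncentral `q`-element for a prime `q` dividing `m`.
-/

set_option autoImplicit false
set_option linter.style.haveILetI false
set_option linter.unusedSectionVars false

namespace CfsgLib.ThreeCop

open Subgroup
open CfsgLib.ClassGraph (cidx)

variable {G : Type*} [Group G] [Finite G]

/-- The class sizes are `1`, `m`, `m n` with coprime `m, n > 1`. -/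
structure Hyp (G : Type*) [Group G] (m n : ℕ) : Prop where
  hm : 1 < m
  hn : 1 < n
  cop : m.Coprime n
  sizes : ∀ g : G, cidx g = 1 ∨ cidx g = m ∨ cidx g = m * n
  exm : ∃ g : G, cidx g = m
  exmn : ∃ g : G, cidx g = m * n

variable {m n : ℕ} (h : Hyp G m n)

include h in
theorem Hyp.idx {g : G} (hg : g ∉ center G) : cidx g = m ∨ cidx g = m * n :=
  (h.sizes g).resolve_left fun e => hg (ClassGraph.mem_center_of_cidx e)

include h in
theorem Hyp.dvd_idx {g : G} (hg : g ∉ center G) : m ∣ cidx g := by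
  rcases h.idx hg with e | e <;> rw [e]
  exact dvd_mul_right m n

include h in
theorem Hyp.idx_dvd (g : G) : cidx g ∣ m * n := by
  rcases h.sizes g with e | e | e <;> rw [e]
  · exact one_dvd _
  · exact dvd_mul_right m n

include h in
theorem Hyp.not_center {g : G} (hg : cidx g = m ∨ cidx g = m * n) : g ∉ center G := fun hc => by
  have h1 := h.hm
  have h2 := h.hn
  rw [ClassGraph.cidx_of_mem_center hc] at hg
  rcases hg with e | e
  · omega
  · exact absurd (Nat.eq_one_of_mul_eq_one_right e.symm) (by omega)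

theorem vq_add (q : ℕ) (g : G) :
    vq q (centralizer ({g} : Set G)) + (cidx g).factorization q = vq q (⊤ : Subgroup G) := by
  rw [vq, vq, card_top, ← (centralizer ({g} : Set G)).card_mul_index,
    Nat.factorization_mul Nat.card_pos.ne' index_ne_zero_of_finite]
  rfl

section

variable {q : ℕ} [hq : Fact q.Prime]

include h in
theorem Hyp.not_dvd_n (hqm : q ∣ m) : ¬ q ∣ n := fun hd =>
  hq.out.not_dvd_one (h.cop ▸ Nat.dvd_gcd hqm hd)

include h in
theorem Hyp.vq_cent (hqm : q ∣ m) {g : G} (hg : g ∉ center G) :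
    vq q (centralizer ({g} : Set G)) + m.factorization q = vq q (⊤ : Subgroup G) := by
  have h1 := h.hm
  have h2 := h.hn
  rw [← vq_add q g]
  rcases h.idx hg with e | e <;> rw [e]
  rw [Nat.factorization_mul (by omega) (by omega), Finsupp.add_apply,
    Nat.factorization_eq_zero_of_not_dvd (h.not_dvd_n hqm), add_zero]

include h in
theorem Hyp.vq_eq (hqm : q ∣ m) {g g' : G} (hg : g ∉ center G) (hg' : g' ∉ center G) :
    vq q (centralizer ({g} : Set G)) = vq q (centralizer ({g'} : Set G)) := by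
  have h1 := h.vq_cent hqm hg
  have h2 := h.vq_cent hqm hg'
  omega

include h in
theorem Hyp.vq_lt (hqm : q ∣ m) {g : G} (hg : g ∉ center G) :
    vq q (centralizer ({g} : Set G)) < vq q (⊤ : Subgroup G) := by
  have h1 := h.vq_cent hqm hg
  have := hq.out.factorization_pos_of_dvd (by have := h.hm; omega : m ≠ 0) hqm
  omega

include h in
/-- A Sylow `q`-subgroup is not contained in the centralizer of a noncentral element. -/
theorem Hyp.not_le_cent (hqm : q ∣ m) {g : G} (hg : g ∉ center G) (P : Sylow q G) :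
    ¬ (P : Subgroup G) ≤ centralizer ({g} : Set G) := fun hle =>
  P.not_dvd_index ((hqm.trans (h.dvd_idx hg)).trans (index_dvd_of_le hle))

include h in
theorem Hyp.sylow_not_center (hqm : q ∣ m) (P : Sylow q G) : ¬ (P : Subgroup G) ≤ center G := by
  obtain ⟨g, hg⟩ := h.exm
  exact fun hle => h.not_le_cent hqm (h.not_center (Or.inl hg)) P
    (hle.trans (center_le_centralizer _))

include h in
/-- An element of a centralizer of largest index, of coprime order, is centralised by it. -/
theorem Hyp.P1 {g e : G} (hg : cidx g = m * n) (hc : Commute g e)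
    (hco : (orderOf g).Coprime (orderOf e)) :
    centralizer ({g} : Set G) ≤ centralizer ({e} : Set G) := by
  have hle := ClassGraph.centralizer_mul_le hc hco
  have he : cidx (g * e) = cidx g := by
    rw [hg]
    exact Nat.dvd_antisymm (h.idx_dvd _) (hg ▸ index_dvd_of_le (hle.trans inf_le_left))
  rw [← ClassGraph.centralizer_eq_of_le (hle.trans inf_le_left) he.symm]
  exact hle.trans inf_le_right

theorem central_mem_full {u : G} {R : Subgroup G} (hR : Full q R (centralizer ({u} : Set G)))
    {z : G} (hz : z ∈ center G) (hzq : IsQ q z) : z ∈ R :=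
  hR.mem_of_isQ (center_le_centralizer _ hz) hzq
    (mem_normalizer_of_conj fun x hx => by
      rw [← mem_center_iff.1 hz x, mul_inv_cancel_right]; exact hx)

theorem inf_center_eq {u u' : G} {R R' : Subgroup G} (hR : Full q R (centralizer ({u} : Set G)))
    (hR' : Full q R' (centralizer ({u'} : Set G))) : R ⊓ center G = R' ⊓ center G :=
  le_antisymm (fun _ hx => ⟨central_mem_full hR' hx.2 (isQ_of_mem hR.pg hx.1), hx.2⟩)
    (fun _ hx => ⟨central_mem_full hR hx.2 (isQ_of_mem hR'.pg hx.1), hx.2⟩)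

include h in
/-- The centralizer of a noncentral element contains a noncentral `q`-element. -/
theorem Hyp.P2 (hqm : q ∣ m) {g : G} (hg : g ∉ center G) :
    ∃ y, y ∈ centralizer ({g} : Set G) ∧ y ∉ center G ∧ IsQ q y := by
  by_contra hcon
  push Not at hcon
  obtain ⟨R, hR⟩ := exists_full' q (centralizer ({g} : Set G))
  have hRZ : R ≤ center G := fun r hr => by
    by_contra hn
    exact hcon r (hR.le hr) hn (isQ_of_mem hR.pg hr)
  obtain ⟨P⟩ : Nonempty (Sylow q G) := inferInstance
  obtain ⟨y, hyP, hyZ⟩ := SetLike.not_le_iff_exists.1 (h.sylow_not_center hqm P)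
  obtain ⟨R', hyR', hR'⟩ := exists_full (isPGroup_zpowers (isQ_of_mem P.isPGroup' hyP))
    (zpowers_le.2 (self_mem_cent y))
  have hle : R ≤ R' := fun r hr => central_mem_full hR' (hRZ hr) (isQ_of_mem hR.pg hr)
  have e : R = R' := eq_of_le_of_card_ge hle
    (by rw [hR'.card, hR.card, h.vq_eq hqm hyZ hg])
  exact hyZ (hRZ (e ▸ hyR' (mem_zpowers y)))

include h in
/-- The centralizer of a noncentral `q`-element has a normal Sylow `q`-subgroup, centralised by
all its elements of order prime to `q`. -/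
theorem Hyp.exists_R (hqm : q ∣ m) {u : G} (huq : IsQ q u) (hu : u ∉ center G) :
    ∃ R, Full q R (centralizer ({u} : Set G)) ∧
      (∀ a ∈ centralizer ({u} : Set G), IsQ q a → a ∈ R) ∧
      (∀ b ∈ centralizer ({u} : Set G), ¬ q ∣ orderOf b → ∀ a ∈ R, Commute a b) ∧
      (∀ c ∈ centralizer ({u} : Set G), ∀ a ∈ R, c * a * c⁻¹ ∈ R) := by
  set C := centralizer ({u} : Set G) with hC
  obtain ⟨R, hR⟩ := exists_full' q C
  have hub : ∀ b ∈ C, ¬ q ∣ orderOf b → ∀ a ∈ centralizer ({u * b} : Set G), IsQ q a →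
      ∃ R₁, a ∈ R₁ ∧ Full q R₁ C ∧ ∀ x ∈ R₁, Commute x b := by
    intro b hb hbq a ha haq
    have hle := ClassGraph.centralizer_mul_le (mem_cent.1 hb).symm (huq.coprime hbq)
    have hnc : u * b ∉ center G := fun hc =>
      hu (center_of_le_cent hc (hle.trans inf_le_left))
    obtain ⟨R₁, haR₁, hR₁⟩ := exists_full (isPGroup_zpowers haq) (zpowers_le.2 ha)
    exact ⟨R₁, haR₁ (mem_zpowers a), ⟨hR₁.le.trans (hle.trans inf_le_left), hR₁.pg,
      by rw [hR₁.card, h.vq_eq hqm hnc hu]⟩, fun x hx => mem_cent.1 (hle (hR₁.le hx)).2⟩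
  have htop : (normalizer (R : Set G)).subgroupOf C = ⊤ := by
    refine PGroup.eq_top_of_forall_conj_mem _ fun g => ?_
    obtain ⟨a, b, hab, hg, haq, hbq, haz, hbz⟩ := parts q (g : G)
    have haC : a ∈ C := zpowers_le.2 g.2 haz
    have hbC : b ∈ C := zpowers_le.2 g.2 hbz
    obtain ⟨R₁, haR₁, hR₁, hb₁⟩ := hub b hbC hbq a
      (mem_cent.2 ((mem_cent.1 haC).mul_right hab)) haq
    obtain ⟨c, hcC, hc⟩ := hR₁.conj hR
    refine ⟨⟨c, hcC⟩⁻¹, ?_⟩
    rw [inv_inv]
    show c * (g : G) * c⁻¹ ∈ normalizer (R : Set G)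
    have hgn : ∀ x ∈ R₁, (g : G) * x * (g : G)⁻¹ ∈ R₁ := by
      intro x hx
      rw [show (g : G) * x * (g : G)⁻¹ = a * (b * x * b⁻¹) * a⁻¹ by rw [hg]; group,
        ← (hb₁ x hx).eq, mul_inv_cancel_right]
      exact mul_mem (mul_mem haR₁ hx) (inv_mem haR₁)
    refine mem_normalizer_of_conj fun y hy => ?_
    have hR₁eq : R₁.map (MulAut.conj c).toMonoidHom = R := eq_of_le_of_card_ge
      (map_le_iff_le_comap.2 fun x hx => hc x hx)
      (le_of_eq (by rw [card_map_of_injective (MulAut.conj c).injective, hR.card, hR₁.card]))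
    rw [← hR₁eq] at hy
    obtain ⟨x, hx, rfl⟩ := hy
    have := hc _ (hgn x hx)
    rw [show c * (g : G) * c⁻¹ * (MulAut.conj c).toMonoidHom x * (c * (g : G) * c⁻¹)⁻¹ =
      c * ((g : G) * x * (g : G)⁻¹) * c⁻¹ by
        show c * (g : G) * c⁻¹ * (c * x * c⁻¹) * _ = _
        group]
    exact this
  have hnorm : ∀ c ∈ C, c ∈ normalizer (R : Set G) := fun c hc => by
    have h1 : (⟨c, hc⟩ : C) ∈ (normalizer (R : Set G)).subgroupOf C := by rw [htop]; exact mem_top _
    exact h1
  have hmem : ∀ a ∈ C, IsQ q a → a ∈ R := fun a ha haq => hR.mem_of_isQ ha haq (hnorm a ha)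
  refine ⟨R, hR, hmem, fun b hb hbq a ha => ?_, fun c hc a ha => (mem_normalizer_iff.1 (hnorm c hc) a).1 ha⟩
  obtain ⟨R₁, -, hR₁, hb₁⟩ := hub b hb hbq 1 (one_mem _) ⟨0, one_pow _⟩
  have e : R₁ = R := eq_of_le_of_card_ge (fun x hx => hmem x (hR₁.le hx) (isQ_of_mem hR₁.pg hx))
    (by rw [hR.card, hR₁.card])
  exact hb₁ a (e.symm ▸ ha)

end

/-- A group whose `q'`-elements centralise a normal `q`-subgroup containing all `q`-elements and
have class sizes `1` or `n`: elements of prime power order for a prime `s ≠ q` not dividing `n`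
are central. -/
theorem central_of_quotient {H : Type*} [Group H] [Finite H] {q s : ℕ} [hq : Fact q.Prime]
    [hs : Fact s.Prime] (hne : s ≠ q) {n : ℕ} (hn : 1 < n) (hsn : ¬ s ∣ n) (R : Subgroup H)
    [R.Normal] (hR : IsPGroup q R) (hmem : ∀ a : H, IsQ q a → a ∈ R)
    (hcent : ∀ b : H, ¬ q ∣ orderOf b → ∀ a ∈ R, Commute a b)
    (hsz : ∀ b : H, ¬ q ∣ orderOf b → cidx b = 1 ∨ cidx b = n) {v : H} (hv : IsQ s v) :
    v ∈ center H := by
  set π := QuotientGroup.mk' R with hπ
  have hsurj : Function.Surjective π := QuotientGroup.mk'_surjective R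
  have hq' : ∀ b : H, ¬ q ∣ orderOf b → cidx (π b) = cidx b := by
    intro b hb
    have heq : centralizer ({π b} : Set (H ⧸ R)) = (centralizer ({b} : Set H)).map π := by
      refine le_antisymm (fun y hy => ?_) ?_
      · obtain ⟨c, rfl⟩ := hsurj y
        refine mem_map_of_mem π (mem_cent.2 ?_)
        have h1 : c * b * c⁻¹ * b⁻¹ ∈ R := (QuotientGroup.eq_one_iff _).1 (by
          show π (c * b * c⁻¹ * b⁻¹) = 1
          rw [map_mul, map_mul, map_mul, map_inv, map_inv, (mem_cent.1 hy).eq,
            mul_inv_cancel_right, mul_inv_cancel])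
        obtain ⟨r, hr⟩ : ∃ r, r = c * b * c⁻¹ * b⁻¹ := ⟨_, rfl⟩
        rw [← hr] at h1
        have h2 : r ^ orderOf b = 1 := by
          have h3 : (r * b) ^ orderOf b = 1 := by
            rw [show r * b = c * b * c⁻¹ by rw [hr]; group, conj_pow, pow_orderOf_eq_one, mul_one,
              mul_inv_cancel]
          rwa [(hcent b hb r h1).mul_pow, pow_orderOf_eq_one, mul_one] at h3
        rw [(isQ_of_mem hR h1).eq_one_of_pow h2 hb] at hr
        exact mul_inv_eq_iff_eq_mul.1 (mul_inv_eq_one.1 hr.symm)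
      · rintro _ ⟨c, hc, rfl⟩
        exact mem_cent.2 ((mem_cent.1 hc).map π)
    rw [cidx, heq]
    refine index_map_eq _ hsurj ?_
    rw [hπ, QuotientGroup.ker_mk']
    exact fun r hr => mem_cent.2 (hcent b hb r hr)
  have hall : ∀ x : H ⧸ R, cidx x = 1 ∨ cidx x = n := by
    intro x
    obtain ⟨g, rfl⟩ := hsurj x
    obtain ⟨a, b, -, rfl, ha, hb, -, -⟩ := parts q g
    rw [map_mul, show π a = 1 from (QuotientGroup.eq_one_iff a).2 (hmem a ha), one_mul, hq' b hb]
    exact hsz b hb
  have hvq : ¬ q ∣ orderOf v := hv.not_dvd_of_ne hq.out (fun e => hne e.symm)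
  suffices hc : π v ∈ center (H ⧸ R) from
    ClassGraph.mem_center_of_cidx ((hq' v hvq).symm.trans (ClassGraph.cidx_of_mem_center hc))
  by_cases hex : ∃ x : H ⧸ R, cidx x = n
  · obtain ⟨l, hl, a, hna, hP⟩ := Cfsg.Agent.S4134.result n hn hall hex
    haveI := hl
    obtain ⟨P⟩ : Nonempty (Sylow l (H ⧸ R)) := inferInstance
    obtain ⟨-, ⟨N, hNn, hNc, hNa, hNP⟩, -⟩ := hP P
    have hls : s ≠ l := by
      rintro rfl
      refine hsn (hna ▸ dvd_pow_self _ ?_)
      rintro rfl
      rw [pow_zero] at hna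
      omega
    obtain ⟨j, hj⟩ := IsPGroup.iff_card.1 P.isPGroup'
    have hidx : N.index = l ^ j := hNc.symm.index_eq_card.trans hj
    obtain ⟨k, hk⟩ := hv
    have hvN : π v ∈ N := by
      obtain ⟨e, he⟩ := exists_pow_eq_self_of_coprime (x := π v) (n := N.index) (by
        rw [hidx]
        refine Nat.Coprime.coprime_dvd_right (orderOf_dvd_of_pow_eq_one
          (show π v ^ s ^ k = 1 by rw [← map_pow, hk, map_one])) ?_
        exact Nat.Coprime.pow _ _ ((Nat.coprime_primes hl.out hs.out).2 (fun e => hls e.symm)))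
      rw [← he]
      haveI := hNn
      exact pow_mem (pow_index_mem N (π v)) e
    refine mem_center_iff.2 fun y => ?_
    have htop : y ∈ centralizer ({π v} : Set (H ⧸ R)) := by
      refine (?_ : (⊤ : Subgroup (H ⧸ R)) ≤ _) (mem_top y)
      rw [← hNc.sup_eq_top]
      refine sup_le (fun x hx => mem_cent.2 ?_) fun x hx => mem_cent.2 ?_
      · haveI := hNa
        exact setLike_mul_comm hx hvN
      · exact (hNP (π v) hvN x hx).symm
    exact (mem_cent.1 htop).eq
  · push Not at hex
    exact ClassGraph.mem_center_of_cidx ((hall _).resolve_right (hex _))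

variable {q s : ℕ} [hq : Fact q.Prime] [hs : Fact s.Prime]

include h in
/-- For distinct primes `q, s` dividing `m`, a noncentral `q`-element centralizer centralises each
`s`-element it contains. -/
theorem Hyp.sigma_central (hqm : q ∣ m) (hsm : s ∣ m) (hne : s ≠ q) {u v : G} (huq : IsQ q u)
    (hu : u ∉ center G) (hvs : IsQ s v) (hc : Commute u v) :
    centralizer ({u} : Set G) ≤ centralizer ({v} : Set G) := by
  rcases h.idx hu with hum | hum
  swap
  · exact h.P1 hum hc (huq.coprime (hvs.not_dvd_of_ne hq.out (fun e => hne e.symm)))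
  obtain ⟨R, hR, hmem, hcent, hnorm⟩ := h.exists_R hqm huq hu
  set C := centralizer ({u} : Set G) with hC
  haveI : (R.subgroupOf C).Normal := ⟨fun a ha c => hnorm c.1 c.2 a.1 ha⟩
  have key : (⟨v, mem_cent.2 hc.symm⟩ : C) ∈ center C := by
    refine central_of_quotient (q := q) hne h.hn (h.not_dvd_n hsm) (R.subgroupOf C)
      (hR.pg.of_equiv (subgroupOfEquivOfLe hR.le).symm) (fun a ha => ?_) (fun b hb a ha => ?_)
      (fun b hb => ?_) ?_
    · obtain ⟨k, hk⟩ := ha
      exact hmem a.1 a.2 ⟨k, congrArg Subtype.val hk⟩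
    · rw [← Subgroup.orderOf_coe] at hb
      exact Subtype.ext (hcent b.1 b.2 hb a.1 ha).eq
    · rw [← Subgroup.orderOf_coe] at hb
      have hub : Commute u (b : G) := (mem_cent.1 b.2).symm
      have hle := ClassGraph.centralizer_mul_le hub (huq.coprime hb)
      have heq : centralizer ({u * (b : G)} : Set G) = C ⊓ centralizer ({(b : G)} : Set G) :=
        le_antisymm hle fun x hx => mem_cent.2 ((mem_cent.1 hx.1).mul_right (mem_cent.1 hx.2))
      have hcb : cidx b = (C ⊓ centralizer ({(b : G)} : Set G)).relIndex C := by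
        rw [inf_relIndex_left, relIndex, cidx]
        congr 1
        ext x
        rw [mem_subgroupOf, mem_cent, mem_cent]
        exact ⟨fun hx => congrArg Subtype.val hx.eq, fun hx => Subtype.ext hx.eq⟩
      have hmul := relIndex_mul_index (inf_le_left : C ⊓ centralizer ({(b : G)} : Set G) ≤ C)
      rw [← hcb, show C.index = m from hum, ← heq] at hmul
      have hm0 : m ≠ 0 := by have := h.hm; omega
      rcases h.idx (g := u * (b : G))
        (fun hc' => hu (center_of_le_cent hc' (hle.trans inf_le_left))) with e | e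
      · left
        exact (mul_eq_right₀ hm0).1 (hmul.trans e)
      · right
        exact mul_right_cancel₀ hm0 ((hmul.trans e).trans (mul_comm m n))
    · obtain ⟨k, hk⟩ := hvs
      exact ⟨k, Subtype.ext hk⟩
  intro x hx
  exact mem_cent.2 (congrArg Subtype.val (mem_center_iff.1 key ⟨x, hx⟩))

end CfsgLib.ThreeCop
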