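import Cfsg.Agent.Lib.PGroup.ThreeSizesCoprime.Basic

/-!
Class sizes `1, m, m n` with coprime `m, n`: `m` is a prime power.
-/

set_option autoImplicit false
set_option linter.style.haveILetI false
set_option linter.unusedSectionVars false

namespace CfsgLib.ThreeCop

open Subgroup
open CfsgLib.ClassGraph (cidx)

variable {G : Type*} [Group G] [Finite G] {m n : ℕ} (h : Hyp G m n)
variable {q s : ℕ} [hq : Fact q.Prime] [hs : Fact s.Prime]

include h in
/-- Commuting noncentral elements for two primes dividing `m` have the same centralizer. -/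
theorem Hyp.same_cent (hqm : q ∣ m) (hsm : s ∣ m) (hne : s ≠ q) {w v : G} (hw : IsQ q w)
    (hwZ : w ∉ center G) (hv : IsQ s v) (hvZ : v ∉ center G) (hc : Commute w v) :
    centralizer ({w} : Set G) = centralizer ({v} : Set G) :=
  le_antisymm (h.sigma_central hqm hsm hne hw hwZ hv hc)
    (h.sigma_central hsm hqm (fun e => hne e.symm) hv hvZ hw hc.symm)

include h in
theorem Hyp.cent_eq (hqm : q ∣ m) (hsm : s ∣ m) (hne : s ≠ q) {w w' : G} (hw : IsQ q w)
    (hwZ : w ∉ center G) (hw' : IsQ q w') (hw'Z : w' ∉ center G) (hc : Commute w w') :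
    centralizer ({w'} : Set G) = centralizer ({w} : Set G) := by
  obtain ⟨v, hvw, hvZ, hv⟩ := h.P2 hsm hwZ
  have e1 := h.same_cent hqm hsm hne hw hwZ hv hvZ (mem_cent.1 hvw).symm
  have e2 : Commute w' v := mem_cent.1 (e1 ▸ mem_cent.2 hc.symm)
  rw [e1, h.same_cent hqm hsm hne hw' hw'Z hv hvZ e2]

include h in
/-- A Sylow subgroup, an element of it with centralizer normalised by it, the two normal Sylow
subgroups of that centralizer. -/
theorem Hyp.config (hqm : q ∣ m) (hsm : s ∣ m) (hne : s ≠ q) :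
    ∃ (P : Sylow q G) (w : G) (R S : Subgroup G) (v : G), IsQ q w ∧ w ∉ center G ∧
      Full q R (centralizer ({w} : Set G)) ∧ R ≤ (P : Subgroup G) ∧
      (∀ a ∈ centralizer ({w} : Set G), IsQ q a → a ∈ R) ∧
      Nat.card (P : Subgroup G) = q * Nat.card R ∧
      IsQ s v ∧ v ∉ center G ∧ centralizer ({v} : Set G) = centralizer ({w} : Set G) ∧
      Full s S (centralizer ({v} : Set G)) ∧
      (∀ x ∈ (P : Subgroup G), ∀ a ∈ S, x * a * x⁻¹ ∈ S) ∧
      (∀ x ∈ (P : Subgroup G), x ∉ R → ∀ a ∈ S, Commute x a → a ∈ center G) := by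
  obtain ⟨P⟩ : Nonempty (Sylow q G) := inferInstance
  set Q : Subgroup G := (P : Subgroup G) with hQ
  obtain ⟨w, hwQ, hwZ, hwq, hwc⟩ := exists_special P.isPGroup' (le_refl Q)
    (fun x hx y hy => mul_mem (mul_mem hx hy) (inv_mem hx)) (h.sylow_not_center hqm P)
  have hw : IsQ q w := isQ_of_mem P.isPGroup' hwQ
  set C := centralizer ({w} : Set G) with hC
  obtain ⟨R, hR, hmem, -, -⟩ := h.exists_R hqm hw hwZ
  have hCn : ∀ x ∈ Q, ∀ c ∈ C, x * c * x⁻¹ ∈ C := by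
    intro x hx c hc
    rw [hC, ← (special_pow hwq (hwc x hx)).2.2]
    exact (mem_cent_conj x).2 hc
  have hRn : ∀ x ∈ Q, ∀ a ∈ R, x * a * x⁻¹ ∈ R := fun x hx a ha =>
    hmem _ (hCn x hx a (hR.le ha)) ((isQ_of_mem hR.pg ha).conj x)
  have hQn : Q ≤ normalizer (R : Set G) := fun x hx => mem_normalizer_of_conj (hRn x hx)
  have hRQ : R ≤ Q := by
    have e : Q ⊔ R = Q := P.is_maximal' (IsPGroup.to_sup_of_normal_right' P.isPGroup' hR.pg hQn) le_sup_left
    exact e ▸ le_sup_right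
  obtain ⟨v, hvw, hvZ, hv⟩ := h.P2 hsm hwZ
  have hvC := (h.same_cent hqm hsm hne hw hwZ hv hvZ (mem_cent.1 hvw).symm).symm
  obtain ⟨S, hS, hSmem, -, -⟩ := h.exists_R hsm hv hvZ
  have hSC : ∀ a ∈ S, a ∈ C := fun a ha => hC ▸ hvC ▸ hS.le ha
  have hScent : ∀ a ∈ S, a ∉ center G → centralizer ({a} : Set G) = C := fun a ha haZ =>
    (h.same_cent hqm hsm hne hw hwZ (isQ_of_mem hS.pg ha) haZ (mem_cent.1 (hSC a ha)).symm).symm
  have hScomm : ∀ a ∈ S, ∀ c ∈ C, Commute c a := fun a ha c hc => by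
    by_cases haZ : a ∈ center G
    · exact commute_center haZ c
    · exact mem_cent.1 ((hScent a ha haZ).symm ▸ hc)
  have hSn : ∀ x ∈ Q, ∀ a ∈ S, x * a * x⁻¹ ∈ S := fun x hx a ha =>
    hSmem _ (hvC.symm ▸ hCn x hx a (hSC a ha)) ((isQ_of_mem hS.pg ha).conj x)
  have hfix : ∀ x ∈ Q, x ∉ R → ∀ a ∈ S, Commute x a → a ∈ center G := by
    intro x hx hxR a ha hxa
    by_contra haZ
    exact hxR (hmem x (hC ▸ hScent a ha haZ ▸ mem_cent.2 hxa) (isQ_of_mem P.isPGroup' hx))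
  have hne' : R ≠ Q := fun e => h.not_le_cent hqm hwZ P (e.symm.le.trans hR.le)
  refine ⟨P, w, R, S, v, hw, hwZ, hR, hRQ, hmem, ?_, hv, hvZ, hvC, hS, hSn, hfix⟩
  refine card_eq_prime_mul P.isPGroup' hRQ hne' hRn (fun x hx => ?_) hSn
    (fun a ha b hb => hScomm b hb a (hSC a ha)) (fun t ht a ha => hScomm a ha t (hR.le ht))
    hfix (fun a ha hq' => ?_) ⟨v, hSmem v (self_mem_cent v) hv, hvZ⟩
  · exact hmem _ (special_pow hwq (hwc x hx)).2.1 (isQ_of_mem P.isPGroup' (Subgroup.pow_mem _ hx q))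
  · obtain ⟨e, he⟩ := exists_pow_eq_self_of_coprime (x := a) (n := q)
      (hq.out.coprime_iff_not_dvd.2 ((isQ_of_mem hS.pg ha).not_dvd_of_ne hq.out fun e => hne e.symm))
    exact he ▸ Subgroup.pow_mem _ hq' e

include h in
theorem Hyp.full_card (hqm : q ∣ m) (hsm : s ∣ m) (hne : s ≠ q) {u : G} {R' : Subgroup G}
    (hu : u ∉ center G) (hR' : Full q R' (centralizer ({u} : Set G))) :
    Nat.card R' = q * Nat.card ↥(R' ⊓ center G) := by
  obtain ⟨P, w, R, S, v, hw, hwZ, hR, hRQ, hmem, hcard, -⟩ := h.config hqm hsm hne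
  suffices hRc : Nat.card R = q * Nat.card ↥(R ⊓ center G) by
    rw [inf_center_eq hR' hR, ← hRc, hR.card, hR'.card, h.vq_eq hqm hu hwZ]
  set C := centralizer ({w} : Set G) with hC
  have hCtop : C ≠ ⊤ := fun e => hwZ (mem_center_iff.2 fun g => mem_cent.1 (e ▸ mem_top g : g ∈ C))
  obtain ⟨g, hg⟩ : ∃ g : G, ∀ c : G, c⁻¹ * g * c ∉ C := by
    by_contra hcon
    push Not at hcon
    exact hCtop (PGroup.eq_top_of_forall_conj_mem C hcon)
  have hgZ : g ∉ center G := fun hgz => hg 1 (center_le_centralizer _ (by simpa using hgz))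
  obtain ⟨y₀, hy₀g, hy₀Z, hy₀⟩ := h.P2 hqm hgZ
  obtain ⟨R₀, hR₀, hmem₀, -, -⟩ := h.exists_R hqm hy₀ hy₀Z
  obtain ⟨c, hc⟩ := exists_conj_mem_sylow P hR₀.pg
  set y := c * y₀ * c⁻¹ with hy
  have hyq : IsQ q y := hy₀.conj c
  have hyZ : y ∉ center G := not_center_conj hy₀Z c
  obtain ⟨R₁, hR₁, hmem₁, -, -⟩ := h.exists_R hqm hyq hyZ
  have hmap : R₀.map (MulAut.conj c).toMonoidHom = R₁ := by
    refine eq_of_le_of_card_ge (map_le_iff_le_comap.2 fun x hx =>
      hmem₁ _ ((mem_cent_conj c).2 (hR₀.le hx)) ((isQ_of_mem hR₀.pg hx).conj c)) (le_of_eq ?_)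
    rw [card_map_of_injective (MulAut.conj c).injective, hR₁.card, hR₀.card, h.vq_eq hqm hyZ hy₀Z]
  have hR₁Q : R₁ ≤ (P : Subgroup G) := hmap ▸ map_le_iff_le_comap.2 fun x hx => hc x hx
  have hdiff : centralizer ({y} : Set G) ≠ C := fun e => hg c⁻¹ (by
    rw [inv_inv, ← e]
    exact (mem_cent_conj c).2 (cent_symm hy₀g))
  have hinf : R ⊓ R₁ = R ⊓ center G := by
    refine le_antisymm (fun a ha => ⟨ha.1, ?_⟩) fun a ha =>
      ⟨ha.1, central_mem_full hR₁ ha.2 (isQ_of_mem hR.pg ha.1)⟩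
    by_contra haZ
    have haq := isQ_of_mem hR.pg ha.1
    refine hdiff ?_
    rw [← h.cent_eq hqm hsm hne hyq hyZ haq haZ (mem_cent.1 (hR₁.le ha.2)).symm,
      h.cent_eq hqm hsm hne hw hwZ haq haZ (mem_cent.1 (hR.le ha.1)).symm]
  rw [← hinf]
  refine card_eq_mul_inf P.isPGroup' hRQ hR₁Q ?_ fun hle => ?_
  · rw [hcard, hR.card, hR₁.card, h.vq_eq hqm hyZ hwZ]
  · have hwR : w ∈ R := hmem w (self_mem_cent w) hw
    exact hwZ ((show w ∈ R ⊓ center G from hinf ▸ ⟨hwR, hle hwR⟩).2)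

include h in
theorem Hyp.dvd_pred (hqm : q ∣ m) (hsm : s ∣ m) (hne : s ≠ q) : q ∣ s - 1 := by
  obtain ⟨P, w, R, S, v, hw, hwZ, hR, hRQ, hmem, hcard, hv, hvZ, hvC, hS, hSn, hfix⟩ :=
    h.config hqm hsm hne
  have hScard := h.full_card hsm hqm (fun e => hne e.symm) hvZ hS
  obtain ⟨t, htP, htR⟩ : ∃ t ∈ (P : Subgroup G), t ∉ R := by
    by_contra hcon
    push Not at hcon
    exact h.not_le_cent hqm hwZ P (fun x hx => hR.le (hcon x hx))
  have hmod := card_modEq_fixed (isQ_of_mem P.isPGroup' htP) (hSn t htP)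
  have e : S ⊓ centralizer ({t} : Set G) = S ⊓ center G :=
    le_antisymm (fun a ha => ⟨ha.1, hfix t htP htR a ha.1 (mem_cent.1 ha.2).symm⟩)
      (inf_le_inf_left _ (center_le_centralizer _))
  rw [e, hScard] at hmod
  obtain ⟨k, hk⟩ := IsPGroup.iff_card.1 (hS.pg.to_le (inf_le_left : S ⊓ center G ≤ S))
  have h1 : s ≡ 1 [MOD q] := Nat.ModEq.cancel_right_of_coprime (c := Nat.card ↥(S ⊓ center G))
    (by rw [hk]; exact Nat.Coprime.pow_right k ((Nat.coprime_primes hq.out hs.out).2 fun e => hne e.symm))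
    (by rwa [one_mul])
  exact (Nat.modEq_iff_dvd' hs.out.one_lt.le).1 h1.symm

include h in
theorem Hyp.prime_pow : ∃ q a : ℕ, q.Prime ∧ 0 < a ∧ m = q ^ a := by
  have hm := h.hm
  obtain ⟨q, hq', hqm⟩ := Nat.exists_prime_and_dvd (show m ≠ 1 by omega)
  haveI := Fact.mk hq'
  have hall : ∀ {d : ℕ}, d.Prime → d ∣ m → d = q := by
    intro d hd hdm
    by_contra hne
    haveI := Fact.mk hd
    have h1 : q ≤ d - 1 := Nat.le_of_dvd (by have := hd.two_le; omega) (h.dvd_pred (q := q) (s := d) hqm hdm hne)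
    have h2 : d ≤ q - 1 := Nat.le_of_dvd (by have := hq'.two_le; omega)
      (h.dvd_pred (q := d) (s := q) hdm hqm (fun e => hne e.symm))
    omega
  refine ⟨q, _, hq', ?_, Nat.eq_prime_pow_of_unique_prime_dvd (by omega) hall⟩
  by_contra h0
  have := Nat.eq_prime_pow_of_unique_prime_dvd (show m ≠ 0 by omega) hall
  rw [Nat.eq_zero_of_not_pos h0, pow_zero] at this
  omega

include h in
theorem Hyp.eq_pow (hqm : q ∣ m) : ∃ a : ℕ, m = q ^ a := by
  obtain ⟨p, a, hp, -, ha⟩ := h.prime_pow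
  have e : q = p := (Nat.prime_dvd_prime_iff_eq hq.out hp).1 (hq.out.dvd_of_dvd_pow (ha ▸ hqm))
  exact ⟨a, e ▸ ha⟩

end CfsgLib.ThreeCop
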