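import Cfsg.Agent.Lib.PGroup.ThreeSizesCoprime.NoTypeOne

/-!
Class sizes `1, m, m n` with coprime `m, n`: the structure theorem.
-/

set_option autoImplicit false
set_option linter.style.haveILetI false

namespace CfsgLib.ThreeCop

open Subgroup
open CfsgLib.ClassGraph (cidx)

theorem main {G : Type*} [Group G] [Finite G] {m n : ℕ} (h : Hyp G m n) :
    m.Prime ∧ m ∣ n - 1 ∧ (∃ M : Subgroup G, M.Normal ∧
      (M : Set G) = {x : G | cidx x = 1 ∨ cidx x = m} ∧ M.index = m ∧ IsMulCommutative M) ∧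
    (∃ N : Subgroup G, N.Normal ∧ (Nat.card N).Coprime m ∧ ∃ a : ℕ, N.index = m ^ a) ∧
    ∀ P : Sylow m G, Nat.card (commutator (P : Subgroup G)) = m := by
  obtain ⟨q, a, hq, ha0, ha⟩ := h.prime_pow
  haveI := Fact.mk hq
  obtain ⟨u, huq, hum⟩ : ∃ u : G, IsQ q u ∧ cidx u = m := by
    by_contra hcon
    push Not at hcon
    exact h.no_type1_false (q := q) (ha ▸ dvd_pow_self q ha0.ne') fun y hy hyZ =>
      (h.idx hyZ).resolve_left (hcon y hy)
  obtain ⟨hmq, hdvd, hM, hN, hP⟩ := h.case_one (q := q) ha huq hum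
  subst hmq
  exact ⟨hq, hdvd, hM, hN, hP⟩

end CfsgLib.ThreeCop
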