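import Cfsg.Agent.Lib.PGroup.ThreeSizesCoprime.TypeOne
import Cfsg.Agent.Lib.PGroup.ThreeSizesCoprime.Composite
import Mathlib.GroupTheory.Transfer

/-!
Class sizes `1, q ^ a, q ^ a n`: it is impossible that all noncentral `q`-elements have classes of
the largest size.
-/

set_option autoImplicit false
set_option linter.style.haveILetI false
set_option linter.unusedSectionVars false

namespace CfsgLib.ThreeCop

open Subgroup
open CfsgLib.ClassGraph (cidx)

variable {G : Type*} [Group G] [Finite G] {q : ℕ} [hq : Fact q.Prime]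

/-- A subgroup of index `q` of a `q`-group is normalised by it. -/
theorem conj_mem_of_index {T Q : Subgroup G} (hQ : IsPGroup q Q) (hTQ : T ≤ Q)
    (hcard : Nat.card Q = q * Nat.card T) : ∀ x ∈ Q, ∀ t ∈ T, x * t * x⁻¹ ∈ T := by
  have hidx : (T.subgroupOf Q).index = q := by
    have e := (T.subgroupOf Q).card_mul_index
    rw [Nat.card_congr (subgroupOfEquivOfLe hTQ).toEquiv, hcard, mul_comm q] at e
    exact Nat.eq_of_mul_eq_mul_left Nat.card_pos e
  obtain ⟨j, hj⟩ := IsPGroup.iff_card.1 hQ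
  have hj0 : j ≠ 0 := fun e => by
    rw [e, pow_zero, hcard] at hj
    exact hq.out.ne_one (Nat.eq_one_of_mul_eq_one_right hj)
  haveI : (T.subgroupOf Q).Normal := normal_of_index_eq_minFac_card (by
    rw [hidx, hj, hq.out.pow_minFac hj0])
  exact fun x hx t ht =>
    Normal.conj_mem (inferInstance : (T.subgroupOf Q).Normal) ⟨t, hTQ ht⟩ ht ⟨x, hx⟩

variable {m n : ℕ} (h : Hyp G m n) (hqm : q ∣ m)
  (htop : ∀ y : G, IsQ q y → y ∉ center G → cidx y = m * n)

include h hqm htop in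
theorem Hyp.coprime_central {y : G} (hy : IsQ q y) (hyZ : y ∉ center G) {b : G}
    (hb : b ∈ centralizer ({y} : Set G)) (hbq : ¬ q ∣ orderOf b) :
    centralizer ({y} : Set G) ≤ centralizer ({b} : Set G) :=
  h.P1 (htop y hy hyZ) (mem_cent.1 hb).symm (hy.coprime hbq)

include h hqm htop in
theorem Hyp.exists_type1 : ∃ z : G, cidx z = m ∧ ¬ q ∣ orderOf z := by
  obtain ⟨g, hg⟩ := h.exm
  obtain ⟨a, b, hab, hge, ha, hb, -, -⟩ := parts q g
  subst hge
  have haZ : a ∈ center G := by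
    by_contra haZ
    have hd : cidx a ∣ cidx (a * b) :=
      index_dvd_of_le ((ClassGraph.centralizer_mul_le hab (ha.coprime hb)).trans inf_le_left)
    rw [hg, htop a ha haZ] at hd
    have := Nat.le_of_dvd (by have := h.hm; omega) hd
    nlinarith [h.hm, h.hn]
  refine ⟨b, ?_, hb⟩
  rw [← hg, cidx, cidx, hab.eq, cent_mul_center haZ]

include h hqm htop in
/-- The elements of order prime to `q` in the centralizer of a noncentral `q`-element. -/
theorem Hyp.exists_A {y : G} (hy : IsQ q y) (hyZ : y ∉ center G) :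
    ∃ A : Subgroup G, (∀ b, b ∈ A ↔ b ∈ centralizer ({y} : Set G) ∧ ¬ q ∣ orderOf b) ∧
      (∀ b ∈ A, ∀ c ∈ A, Commute b c) ∧ ∃ e ∈ A, e ∉ center G := by
  have hcen : ∀ b, b ∈ centralizer ({y} : Set G) → ¬ q ∣ orderOf b →
      ∀ c ∈ centralizer ({y} : Set G), Commute c b :=
    fun b hb hbq c hc => mem_cent.1 (h.coprime_central hqm htop hy hyZ hb hbq hc)
  let A : Subgroup G :=
    { carrier := {b | b ∈ centralizer ({y} : Set G) ∧ ¬ q ∣ orderOf b}
      mul_mem' := fun {b c} hb hc => ⟨mul_mem hb.1 hc.1, fun hd =>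
        ((hq.out.dvd_mul).1 (hd.trans (hcen c hc.1 hc.2 b hb.1).orderOf_mul_dvd_mul_orderOf)).elim
          hb.2 hc.2⟩
      one_mem' := ⟨one_mem _, by rw [orderOf_one]; exact hq.out.not_dvd_one⟩
      inv_mem' := fun {b} hb => ⟨inv_mem hb.1, by rw [orderOf_inv]; exact hb.2⟩ }
  refine ⟨A, fun b => Iff.rfl, fun b hb c hc => hcen c hc.1 hc.2 b hb.1, ?_⟩
  by_contra hcon
  push Not at hcon
  obtain ⟨z, hz, hzq⟩ := h.exists_type1 hqm htop
  have hzZ := h.not_center (Or.inl hz)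
  obtain ⟨y₀, hy₀z, hy₀Z, hy₀⟩ := h.P2 hqm hzZ
  obtain ⟨R, hR, hmem, -, -⟩ := h.exists_R hqm hy hyZ
  obtain ⟨R₀, hR₀, hmem₀, -, -⟩ := h.exists_R hqm hy₀ hy₀Z
  have hle : centralizer ({y} : Set G) ≤ R ⊔ center G := by
    intro c hc
    obtain ⟨a, b, -, hce, ha, hb, haz, hbz⟩ := parts q c
    subst hce
    exact mul_mem (mem_sup_left (hmem a (zpowers_le.2 hc haz) ha))
      (mem_sup_right (hcon b ⟨zpowers_le.2 hc hbz, hb⟩))
  have hle₀ : R₀ ⊔ center G ≤ centralizer ({y₀} : Set G) :=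
    sup_le hR₀.le (center_le_centralizer _)
  have key : ∀ S : Subgroup G, Nat.card S * Nat.card (center G) =
      Nat.card ↥(S ⊔ center G) * Nat.card ↥(S ⊓ center G) := by
    intro S
    have e1 := relIndex_mul_relIndex ⊥ (center G) (S ⊔ center G) bot_le le_sup_right
    have e2 := relIndex_mul_relIndex ⊥ (S ⊓ center G) S bot_le inf_le_left
    rw [relIndex_bot_left, relIndex_bot_left, relIndex_sup_right] at e1
    rw [relIndex_bot_left, relIndex_bot_left, inf_relIndex_left] at e2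
    rw [← e1, ← e2]; ring
  have hcard : Nat.card ↥(R ⊔ center G) = Nat.card ↥(R₀ ⊔ center G) := by
    have h1 := key R
    have h2 := key R₀
    rw [hR.card, h.vq_eq hqm hyZ hy₀Z, ← hR₀.card, h2, inf_center_eq hR hR₀] at h1
    exact (Nat.eq_of_mul_eq_mul_right Nat.card_pos h1).symm
  have hC : Nat.card (centralizer ({y} : Set G)) = Nat.card (centralizer ({y₀} : Set G)) := by
    have e1 := (centralizer ({y} : Set G)).card_mul_index
    rw [← (centralizer ({y₀} : Set G)).card_mul_index, show (centralizer ({y} : Set G)).index = m * n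
      from htop y hy hyZ, show (centralizer ({y₀} : Set G)).index = m * n from htop y₀ hy₀ hy₀Z] at e1
    exact Nat.eq_of_mul_eq_mul_right
      (Nat.mul_pos (by have := h.hm; omega) (by have := h.hn; omega)) e1
  have heq : R₀ ⊔ center G = centralizer ({y₀} : Set G) := eq_of_le_of_card_ge hle₀
    (by rw [← hcard, ← hC]; exact card_le_of_le hle)
  obtain ⟨r, hr, c, hc, hrc⟩ := mem_sup_of_normal_right.1 (heq.ge (cent_symm hy₀z))
  set π := QuotientGroup.mk' (center G)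
  have hπ : π r = π z := by
    rw [← hrc, map_mul, show π c = 1 from (QuotientGroup.eq_one_iff c).2 hc, mul_one]
  obtain ⟨k, hk⟩ := isQ_of_mem hR₀.pg hr
  have h1 : π z = 1 := IsQ.eq_one (q := q) ⟨k, by rw [← hπ, ← map_pow, hk, map_one]⟩
    fun hd => hzq (hd.trans (orderOf_map_dvd π z))
  exact hzZ ((QuotientGroup.eq_one_iff z).1 h1)

include h hqm htop in
/-- A special element of a Sylow subgroup: the Sylow subgroup of its centralizer lies below. -/
theorem Hyp.special_R (P : Sylow q G) {w : G} (hw : IsQ q w) (hwZ : w ∉ center G)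
    (hwq : w ^ q ∈ center G) (hwc : ∀ x ∈ (P : Subgroup G), x * w * x⁻¹ * w⁻¹ ∈ center G) :
    ∃ R, Full q R (centralizer ({w} : Set G)) ∧
      (∀ a ∈ centralizer ({w} : Set G), IsQ q a → a ∈ R) ∧
      (∀ b ∈ centralizer ({w} : Set G), ¬ q ∣ orderOf b → ∀ a ∈ R, Commute a b) ∧
      R ≤ (P : Subgroup G) ∧
      ∀ x ∈ (P : Subgroup G), ∀ c ∈ centralizer ({w} : Set G),
        x * c * x⁻¹ ∈ centralizer ({w} : Set G) := by
  have hCn : ∀ x ∈ (P : Subgroup G), ∀ c ∈ centralizer ({w} : Set G),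
      x * c * x⁻¹ ∈ centralizer ({w} : Set G) := fun x hx c hc => by
    rw [← (special_pow hwq (hwc x hx)).2.2]
    exact (mem_cent_conj x).2 hc
  obtain ⟨R, hR, hmem, hcent, -⟩ := h.exists_R hqm hw hwZ
  refine ⟨R, hR, hmem, hcent, ?_, hCn⟩
  have hQn : (P : Subgroup G) ≤ normalizer (R : Set G) := fun x hx =>
    mem_normalizer_of_conj fun a ha => hmem _ (hCn x hx a (hR.le ha)) ((isQ_of_mem hR.pg ha).conj x)
  have e : (P : Subgroup G) ⊔ R = P :=
    P.is_maximal' (IsPGroup.to_sup_of_normal_right' P.isPGroup' hR.pg hQn) le_sup_left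
  exact e ▸ le_sup_right

include h hqm htop in
/-- The Sylow subgroup of the centralizer of a noncentral element has index `q` in a Sylow
subgroup and order `q` modulo the center. -/
theorem Hyp.sylow_facts (P : Sylow q G) :
    (∀ g : G, g ∉ center G → vq q (⊤ : Subgroup G) = vq q (centralizer ({g} : Set G)) + 1) ∧
    ∀ (g : G) (S : Subgroup G), g ∉ center G → Full q S (centralizer ({g} : Set G)) →
      Nat.card S = q * Nat.card ↥(S ⊓ center G) := by
  set Q : Subgroup G := (P : Subgroup G) with hQ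
  obtain ⟨w, hwQ, hwZ, hwq, hwc⟩ := exists_special P.isPGroup' (le_refl Q)
    (fun x hx y hy => mul_mem (mul_mem hx hy) (inv_mem hx)) (h.sylow_not_center hqm P)
  have hw := isQ_of_mem P.isPGroup' hwQ
  obtain ⟨R, hR, hmem, hcent, hRQ, hCn⟩ := h.special_R hqm htop P hw hwZ hwq hwc
  obtain ⟨A, hA, hAc, e₀, he₀, he₀Z⟩ := h.exists_A hqm htop hw hwZ
  have hRn : ∀ x ∈ Q, ∀ a ∈ R, x * a * x⁻¹ ∈ R := fun x hx a ha =>
    hmem _ (hCn x hx a (hR.le ha)) ((isQ_of_mem hR.pg ha).conj x)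
  have hne : R ≠ Q := fun e => h.not_le_cent hqm hwZ P (e.symm.le.trans hR.le)
  have hfull : ∀ e ∈ A, e ∉ center G → Full q R (centralizer ({e} : Set G)) := fun e he heZ =>
    ⟨fun r hr => mem_cent.2 (hcent e ((hA e).1 he).1 ((hA e).1 he).2 r hr), hR.pg,
      by rw [hR.card, h.vq_eq hqm hwZ heZ]⟩
  have hcard : Nat.card Q = q * Nat.card R := by
    refine card_eq_prime_mul P.isPGroup' hRQ hne hRn (fun x hx => ?_)
      (fun x hx e he => (hA _).2 ⟨hCn x hx e ((hA e).1 he).1,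
        by rw [orderOf_conj']; exact ((hA e).1 he).2⟩) hAc
      (fun r hr e he => hcent e ((hA e).1 he).1 ((hA e).1 he).2 r hr) (fun x hx hxR e he hxe => ?_)
      (fun e he heq => ?_) ⟨e₀, he₀, he₀Z⟩
    · exact hmem _ (special_pow hwq (hwc x hx)).2.1 (isQ_of_mem P.isPGroup' (Subgroup.pow_mem _ hx q))
    · by_contra heZ
      exact hxR ((hfull e he heZ).mem_of_isQ (mem_cent.2 hxe) (isQ_of_mem P.isPGroup' hx)
        (mem_normalizer_of_conj (hRn x hx)))
    · obtain ⟨k, hk⟩ := exists_pow_eq_self_of_coprime (x := e) (n := q)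
        (hq.out.coprime_iff_not_dvd.2 ((hA e).1 he).2)
      exact hk ▸ Subgroup.pow_mem _ heq k
  have hvq : ∀ g : G, g ∉ center G →
      vq q (⊤ : Subgroup G) = vq q (centralizer ({g} : Set G)) + 1 := by
    intro g hg
    have h1 := hcard
    rw [hR.card, hQ, (sylow_full P).card, ← pow_succ', h.vq_eq hqm hwZ hg] at h1
    exact Nat.pow_right_injective hq.out.two_le h1
  refine ⟨hvq, fun g S hg hS => ?_⟩
  suffices hRc : Nat.card R = q * Nat.card ↥(R ⊓ center G) by
    rw [inf_center_eq hS hR, ← hRc, hR.card, hS.card, h.vq_eq hqm hg hwZ]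
  set C := centralizer ({w} : Set G) with hC
  obtain ⟨g₁, hg₁⟩ : ∃ g : G, ∀ c : G, c⁻¹ * g * c ∉ C := by
    by_contra hcon
    push Not at hcon
    have hCtop := PGroup.eq_top_of_forall_conj_mem C hcon
    exact hwZ (mem_center_iff.2 fun x => mem_cent.1 (hCtop ▸ mem_top x : x ∈ C))
  have hg₁Z : g₁ ∉ center G := fun hgz => hg₁ 1 (center_le_centralizer _ (by simpa using hgz))
  obtain ⟨y₀, hy₀g, hy₀Z, hy₀⟩ := h.P2 hqm hg₁Z
  obtain ⟨R₀, hR₀, hmem₀, -, -⟩ := h.exists_R hqm hy₀ hy₀Z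
  obtain ⟨c, hc⟩ := exists_conj_mem_sylow P hR₀.pg
  set y := c * y₀ * c⁻¹ with hy
  have hyq : IsQ q y := hy₀.conj c
  have hyZ : y ∉ center G := not_center_conj hy₀Z c
  obtain ⟨R₁, hR₁, hmem₁, hcent₁, -⟩ := h.exists_R hqm hyq hyZ
  have hmap : R₀.map (MulAut.conj c).toMonoidHom = R₁ := by
    refine eq_of_le_of_card_ge (map_le_iff_le_comap.2 fun x hx =>
      hmem₁ _ ((mem_cent_conj c).2 (hR₀.le hx)) ((isQ_of_mem hR₀.pg hx).conj c)) (le_of_eq ?_)
    rw [card_map_of_injective (MulAut.conj c).injective, hR₁.card, hR₀.card, h.vq_eq hqm hyZ hy₀Z]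
  have hR₁Q : R₁ ≤ Q := hmap ▸ map_le_iff_le_comap.2 fun x hx => hc x hx
  have hdiff : R₁ ≠ R := by
    intro e
    have hCy : centralizer ({y} : Set G) ≤ C := by
      intro v hv
      obtain ⟨a, b, -, hve, ha, hb, haz, hbz⟩ := parts q v
      subst hve
      refine mul_mem (hR.le (e ▸ hmem₁ a (zpowers_le.2 hv haz) ha)) ?_
      exact mem_cent.2 (hcent₁ b (zpowers_le.2 hv hbz) hb w (e.symm ▸ hmem w (self_mem_cent w) hw)).symm
    refine hg₁ c⁻¹ (hCy ?_)
    rw [inv_inv]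
    exact (mem_cent_conj c).2 (cent_symm hy₀g)
  have hcard₁ : Nat.card Q = q * Nat.card R₁ := by
    rw [hcard, hR.card, hR₁.card, h.vq_eq hqm hyZ hwZ]
  have hR₁n := conj_mem_of_index P.isPGroup' hR₁Q hcard₁
  obtain ⟨A₁, hA₁, -, e₁, he₁, he₁Z⟩ := h.exists_A hqm htop hyq hyZ
  have hfull₁ : Full q R₁ (centralizer ({e₁} : Set G)) :=
    ⟨fun r hr => mem_cent.2 (hcent₁ e₁ ((hA₁ e₁).1 he₁).1 ((hA₁ e₁).1 he₁).2 r hr), hR₁.pg,
      by rw [hR₁.card, h.vq_eq hqm hyZ he₁Z]⟩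
  have hI : R ⊓ R₁ ≤ center G := by
    by_contra hI
    obtain ⟨a, ha, haZ, haq, hac⟩ := exists_special P.isPGroup' (inf_le_left.trans hRQ)
      (fun x hx s hs => ⟨hRn x hx s hs.1, hR₁n x hx s hs.2⟩) hI
    have haQ := isQ_of_mem hR.pg ha.1
    obtain ⟨Ra, hRa, -, -, hRaQ, -⟩ := h.special_R hqm htop P haQ haZ haq hac
    have main : ∀ {T : Subgroup G} {e : G}, Full q T (centralizer ({e} : Set G)) → ¬ q ∣ orderOf e →
        e ∉ center G → (∀ x ∈ Q, ∀ t ∈ T, x * t * x⁻¹ ∈ T) → a ∈ T → Ra = T := by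
      intro T e hT heq heZ hTn haT
      have hce : centralizer ({a} : Set G) ≤ centralizer ({e} : Set G) :=
        h.coprime_central hqm htop haQ haZ (cent_symm (hT.le haT)) heq
      exact eq_of_le_of_card_ge (fun x hx => hT.mem_of_isQ (hce (hRa.le hx)) (isQ_of_mem hRa.pg hx)
        (mem_normalizer_of_conj (hTn x (hRaQ hx)))) (by rw [hRa.card, hT.card, h.vq_eq hqm haZ heZ])
    exact hdiff ((main hfull₁ ((hA₁ e₁).1 he₁).2 he₁Z hR₁n ha.2).symm.trans
      (main (hfull e₀ he₀ he₀Z) ((hA e₀).1 he₀).2 he₀Z hRn ha.1))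
  have hinf : R ⊓ R₁ = R ⊓ center G := le_antisymm (le_inf inf_le_left hI)
    fun a ha => ⟨ha.1, central_mem_full hR₁ ha.2 (isQ_of_mem hR.pg ha.1)⟩
  rw [← hinf]
  refine card_eq_mul_inf P.isPGroup' hRQ hR₁Q hcard₁ fun hle => hdiff ?_
  exact (eq_of_le_of_card_ge hle (by rw [hR.card, hR₁.card, h.vq_eq hqm hwZ hyZ])).symm

include h hqm htop in
theorem Hyp.full_eq_sup {y : G} (hy : IsQ q y) (hyZ : y ∉ center G) {R : Subgroup G}
    (hR : Full q R (centralizer ({y} : Set G))) (hyR : y ∈ R) :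
    zpowers y ⊔ R ⊓ center G = R := by
  obtain ⟨P⟩ : Nonempty (Sylow q G) := inferInstance
  exact sup_eq_of_card_prime inf_le_left ((h.sylow_facts hqm htop P).2 y R hyZ hR) hyR fun h' => hyZ h'.2

include h hqm htop in
theorem Hyp.cent_eq₂ {y a : G} (hy : IsQ q y) (hyZ : y ∉ center G) (ha : IsQ q a)
    (haZ : a ∉ center G) (hc : Commute a y) :
    centralizer ({a} : Set G) = centralizer ({y} : Set G) := by
  obtain ⟨R, hR, hmem, -, -⟩ := h.exists_R hqm hy hyZ
  have hle : centralizer ({y} : Set G) ≤ centralizer ({a} : Set G) := by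
    intro c hc'
    have hR' : R ≤ centralizer ({c} : Set G) := by
      rw [← h.full_eq_sup hqm htop hy hyZ hR (hmem y (self_mem_cent y) hy)]
      exact sup_le (zpowers_le.2 (cent_symm hc')) fun z hz => center_le_centralizer _ hz.2
    exact cent_symm (hR' (hmem a (mem_cent.2 hc) ha))
  exact (ClassGraph.centralizer_eq_of_le hle ((htop a ha haZ).trans (htop y hy hyZ).symm)).symm

include h hqm htop in
theorem Hyp.cent_abelian {y : G} (hy : IsQ q y) (hyZ : y ∉ center G) :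
    ∀ x ∈ centralizer ({y} : Set G), ∀ v ∈ centralizer ({y} : Set G), Commute x v := by
  intro x hx v hv
  obtain ⟨a, b, -, hve, ha, hb, haz, hbz⟩ := parts q v
  subst hve
  refine Commute.mul_right ?_ ?_
  · by_cases haZ : a ∈ center G
    · exact commute_center haZ x
    · exact mem_cent.1 ((h.cent_eq₂ hqm htop hy hyZ ha haZ (mem_cent.1 (zpowers_le.2 hv haz))).symm ▸ hx)
  · exact mem_cent.1 (h.coprime_central hqm htop hy hyZ (zpowers_le.2 hv hbz) hb hx)

include h hqm htop in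
/-- A normal `q`-complement centralised by an element of order prime to `q` outside the center. -/
theorem Hyp.exists_compl :
    ∃ (P : Sylow q G) (K : Subgroup G) (y z t : G) (R : Subgroup G),
      Compl G q K ∧ IsQ q y ∧ y ∉ center G ∧ z ∈ K ∧ z ∉ center G ∧
      z ∈ centralizer ({y} : Set G) ∧ K ≤ centralizer ({z} : Set G) ∧
      Full q R (centralizer ({y} : Set G)) ∧ R ≤ (P : Subgroup G) ∧
      (∀ a ∈ centralizer ({y} : Set G), IsQ q a → a ∈ R) ∧
      (∀ x ∈ (P : Subgroup G), ∀ a ∈ R, x * a * x⁻¹ ∈ R) ∧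
      t ∈ (P : Subgroup G) ∧ t ∉ R := by
  obtain ⟨P⟩ : Nonempty (Sylow q G) := inferInstance
  set Q : Subgroup G := (P : Subgroup G) with hQ
  obtain ⟨hvq, hcardR⟩ := h.sylow_facts hqm htop P
  obtain ⟨z₀, hz₀, hz₀q⟩ := h.exists_type1 hqm htop
  have hz₀Z := h.not_center (Or.inl hz₀)
  obtain ⟨y₀, hy₀z, hy₀Z, hy₀⟩ := h.P2 hqm hz₀Z
  obtain ⟨R₀, hR₀, hmem₀, -, -⟩ := h.exists_R hqm hy₀ hy₀Z
  obtain ⟨c, hc⟩ := exists_conj_mem_sylow P hR₀.pg
  have hy₁ : IsQ q (c * y₀ * c⁻¹) := hy₀.conj c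
  have hy₁Z : c * y₀ * c⁻¹ ∉ center G := not_center_conj hy₀Z c
  obtain ⟨R, hR₁, hmem₁, hcent₁, -⟩ := h.exists_R hqm hy₁ hy₁Z
  have hRQ : R ≤ Q := by
    rw [show R = R₀.map (MulAut.conj c).toMonoidHom from
      (eq_of_le_of_card_ge (map_le_iff_le_comap.2 fun x hx =>
        hmem₁ _ ((mem_cent_conj c).2 (hR₀.le hx)) ((isQ_of_mem hR₀.pg hx).conj c))
        (le_of_eq (by rw [card_map_of_injective (MulAut.conj c).injective, hR₁.card, hR₀.card,
          h.vq_eq hqm hy₁Z hy₀Z]))).symm]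
    exact map_le_iff_le_comap.2 fun x hx => hc x hx
  have hcardQ : Nat.card Q = q * Nat.card R := by
    rw [hQ, (sylow_full P).card, hR₁.card, hvq _ hy₁Z, pow_succ']
  have hRn := conj_mem_of_index P.isPGroup' hRQ hcardQ
  -- replace the element by one that is central modulo the center
  obtain ⟨y, hyR, hyZ, hyq', hyc⟩ := exists_special P.isPGroup' hRQ hRn
    fun hle => hy₁Z (hle (hmem₁ _ (self_mem_cent _) hy₁))
  have hy := isQ_of_mem hR₁.pg hyR
  have hD₁ := h.cent_eq₂ hqm htop hy₁ hy₁Z hy hyZ (mem_cent.1 (hR₁.le hyR))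
  set D := centralizer ({y} : Set G) with hD
  have hR : Full q R D := hD₁.symm ▸ hR₁
  have hmem : ∀ a ∈ D, IsQ q a → a ∈ R := fun a ha => hmem₁ a (hD₁ ▸ ha)
  have hcent : ∀ b ∈ D, ¬ q ∣ orderOf b → ∀ a ∈ R, Commute a b := fun b hb => hcent₁ b (hD₁ ▸ hb)
  have hDab := h.cent_abelian hqm htop hy hyZ
  set z := c * z₀ * c⁻¹ with hzdef
  have hzm : cidx z = m := by rw [hzdef, ClassGraph.cidx_conj]; exact hz₀
  have hzq : ¬ q ∣ orderOf z := by rw [hzdef, orderOf_conj']; exact hz₀q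
  have hzZ : z ∉ center G := not_center_conj hz₀Z c
  have hzD : z ∈ D := hD₁.symm ▸ (mem_cent_conj c).2 (cent_symm hy₀z)
  have hDn : ∀ x ∈ Q, ∀ d ∈ D, x * d * x⁻¹ ∈ D := fun x hx d hd => by
    rw [hD, ← (special_pow hyq' (hyc x hx)).2.2]
    exact (mem_cent_conj x).2 hd
  set Cz := centralizer ({z} : Set G) with hCz
  have hDCz : D ≤ Cz := fun d hd => mem_cent.2 (hDab d hd z hzD)
  have hfullz : Full q R Cz := ⟨hR.le.trans hDCz, hR.pg, by rw [hR.card, h.vq_eq hqm hyZ hzZ]⟩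
  obtain ⟨t, htQ, htR⟩ : ∃ t ∈ Q, t ∉ R := by
    by_contra hcon
    push Not at hcon
    exact h.not_le_cent hqm hyZ P fun x hx => hR.le (hcon x hx)
  have htq : IsQ q t := isQ_of_mem P.isPGroup' htQ
  have htz : t ∉ Cz := fun hh =>
    htR (hfullz.mem_of_isQ hh htq (mem_normalizer_of_conj (hRn t htQ)))
  have hm_q : m = q := by
    obtain ⟨a, ha⟩ := h.eq_pow hqm
    have h1 := h.vq_cent hqm hzZ
    have h2 := hvq z hzZ
    have h3 : m.factorization q = a := by rw [ha, hq.out.factorization_pow, Finsupp.single_eq_same]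
    rw [ha, show a = 1 by omega, pow_one]
  -- `G = Q C(z)`
  have hsurj : ∀ g : G, ∃ x ∈ Q, x⁻¹ * g ∈ Cz := by
    intro g
    have hidx : Cz.index = q := hzm.trans hm_q
    have hrel : Cz.relIndex Q = q := by
      obtain ⟨j, -, hj⟩ : ∃ j ≤ _, Cz.relIndex Q = q ^ j := (Nat.dvd_prime_pow hq.out).1
        ((relIndex_dvd_card Cz Q).trans (dvd_of_eq (IsPGroup.iff_card.1 P.isPGroup').choose_spec))
      have hle : Cz.relIndex Q ≤ q := by
        rw [← hidx, ← relIndex_top_right]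
        exact relIndex_le_of_le_right le_top (by rw [relIndex_top_right, hidx]; exact hq.out.ne_zero)
      have hj0 : j ≠ 0 := fun e => htz (relIndex_eq_one.1 (by rw [hj, e, pow_zero]) htQ)
      have hj1 : j ≤ 1 := (Nat.pow_le_pow_iff_right hq.out.one_lt).1 (by rwa [← hj, pow_one])
      rw [hj, show j = 1 by omega, pow_one]
    have hst : MulAction.stabilizer Q ((1 : G) : G ⧸ Cz) = Cz.subgroupOf Q := by
      ext a
      rw [MulAction.mem_stabilizer_iff, mem_subgroupOf]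
      show (((a : G) * 1 : G) : G ⧸ Cz) = _ ↔ _
      rw [mul_one, QuotientGroup.eq, mul_one, inv_mem_iff]
    have horb : MulAction.orbit Q ((1 : G) : G ⧸ Cz) = Set.univ := by
      refine Set.eq_of_subset_of_ncard_le (Set.subset_univ _) ?_ (Set.toFinite _)
      rw [Set.ncard_univ, ← MulAction.index_stabilizer, hst, ← index_eq_card, hidx]
      exact (le_of_eq hrel.symm).trans le_rfl
    obtain ⟨a, ha⟩ : ((g : G) : G ⧸ Cz) ∈ MulAction.orbit Q ((1 : G) : G ⧸ Cz) := by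
      rw [horb]; trivial
    have ha' : (((a : G) * 1 : G) : G ⧸ Cz) = (g : G ⧸ Cz) := ha
    rw [mul_one, QuotientGroup.eq] at ha'
    exact ⟨a, a.2, ha'⟩
  set C₀ := Cz.normalCore with hC₀
  have hDC₀ : D ≤ C₀ := by
    intro d hd g
    obtain ⟨x, hx, hxg⟩ := hsurj g⁻¹
    have hconj : g⁻¹ * z * g ∈ D := by
      have e : g⁻¹ * z * g = x * z * x⁻¹ := by
        calc g⁻¹ * z * g = x * ((x⁻¹ * g⁻¹) * z) * g := by group
          _ = x * (z * (x⁻¹ * g⁻¹)) * g := by rw [mem_cent.1 hxg]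
          _ = _ := by group
      exact e ▸ hDn x hx z hzD
    refine mem_cent.2 ?_
    have := commute_conj (hDab d hd _ hconj) g
    rwa [show g * (g⁻¹ * z * g) * g⁻¹ = z by group] at this
  have hC₀z : C₀ ≤ Cz := normalCore_le _
  have hR₀' : Full q R C₀ := ⟨hR.le.trans hDC₀, hR.pg, le_antisymm
    (card_le_of_pGroup hR.pg (hR.le.trans hDC₀)) (by
      rw [hfullz.card]
      exact Nat.pow_le_pow_right hq.out.pos
        ((Nat.factorization_le_iff_dvd Nat.card_pos.ne' Nat.card_pos.ne').2 (card_dvd_of_le hC₀z) q))⟩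
  set N := normalizer (R : Set G) with hN
  have hQN : Q ≤ N := fun x hx => mem_normalizer_of_conj (hRn x hx)
  set π := QuotientGroup.mk' (center G) with hπ
  set M := (centralizer ({π y} : Set (G ⧸ center G))).comap π ⊓ N with hM
  have hRsup : zpowers y ⊔ R ⊓ center G = R := h.full_eq_sup hqm htop hy hyZ hR hyR
  have himg : ∀ r ∈ R, π r ∈ zpowers (π y) := by
    intro r hr
    have hle : R ≤ (zpowers (π y)).comap π := by
      rw [← hRsup]
      exact sup_le (zpowers_le.2 (mem_zpowers (π y))) fun v hv => by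
        rw [mem_comap, show π v = 1 from (QuotientGroup.eq_one_iff v).2 hv.2]; exact one_mem _
    exact hle hr
  have hNR : ∀ g ∈ N, ∀ r ∈ R, g * r * g⁻¹ ∈ R := fun g hg r hr =>
    (mem_normalizer_iff.1 hg r).1 hr
  have hMn : ∀ g ∈ N, ∀ k ∈ M, g * k * g⁻¹ ∈ M := by
    intro g hg k hk
    refine ⟨mem_cent.2 ?_, N.mul_mem (N.mul_mem hg hk.2) (N.inv_mem hg)⟩
    obtain ⟨i, hi⟩ := himg _ (hNR g⁻¹ (inv_mem hg) y hyR)
    have h1 : Commute (π k) (π (g⁻¹ * y * g⁻¹⁻¹)) := hi ▸ (mem_cent.1 hk.1).zpow_right i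
    have h2 := commute_conj h1 (π g)
    rwa [← map_inv, ← map_mul, ← map_mul, ← map_mul, ← map_mul,
      show g * (g⁻¹ * y * g⁻¹⁻¹) * g⁻¹ = y by group] at h2
  have hMc : ∀ k ∈ M, k * y * k⁻¹ * y⁻¹ ∈ center G := fun k hk => (QuotientGroup.eq_one_iff _).1 (by
    show π (k * y * k⁻¹ * y⁻¹) = 1
    rw [map_mul, map_mul, map_mul, map_inv, map_inv, (mem_cent.1 hk.1).eq, mul_inv_cancel_right,
      mul_inv_cancel])
  have hQM : Q ≤ M := fun x hx => ⟨mem_cent.2 (by
    have h1 : π (x * y * x⁻¹ * y⁻¹) = 1 := (QuotientGroup.eq_one_iff _).2 (hyc x hx)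
    rw [map_mul, map_mul, map_mul, map_inv, map_inv, mul_inv_eq_one, mul_inv_eq_iff_eq_mul] at h1
    exact h1), hQN hx⟩
  have hDN : D ≤ N := fun d hd => mem_normalizer_of_conj fun r hr => by
    rw [(hDab d hd r (hR.le hr)).eq, mul_inv_cancel_right]; exact hr
  have hDM : D ≤ M := fun d hd => ⟨mem_cent.2 ((mem_cent.1 hd).map π), hDN hd⟩
  have hMq' : ∀ k ∈ M, ¬ q ∣ orderOf k → k ∈ D := by
    intro k hk hkq
    obtain ⟨d, hd⟩ : ∃ d, d = k * y * k⁻¹ * y⁻¹ := ⟨_, rfl⟩
    have hdR : d ∈ R := hd ▸ mul_mem (hNR k hk.2 y hyR) (inv_mem hyR)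
    have e : k * y * k⁻¹ = d * y := by rw [hd]; group
    have h1 := conj_pow_center (hd ▸ hMc k hk) e (orderOf k)
    rw [pow_orderOf_eq_one, one_mul, inv_one, mul_one, eq_comm, mul_eq_right] at h1
    rw [(isQ_of_mem hR.pg hdR).eq_one_of_pow h1 hkq, one_mul, mul_inv_eq_iff_eq_mul] at e
    exact mem_cent.2 e
  have hpar : ∀ k : G, ∀ H : Subgroup G, k ∈ H → ∃ a b, Commute a b ∧ k = a * b ∧ IsQ q a ∧
      ¬ q ∣ orderOf b ∧ a ∈ H ∧ b ∈ H := fun k H hk => by
    obtain ⟨a, b, hab, hke, ha, hb, haz, hbz⟩ := parts q k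
    exact ⟨a, b, hab, hke, ha, hb, zpowers_le.2 hk haz, zpowers_le.2 hk hbz⟩
  have hMC₀ : ∀ k ∈ M, k ∈ C₀ → k ∈ D := by
    intro k hk hk₀
    obtain ⟨a, b, -, hke, ha, hb, haM, hbM⟩ := hpar k (M ⊓ C₀) ⟨hk, hk₀⟩
    rw [hke]
    exact mul_mem (hR.le (hR₀'.mem_of_isQ haM.2 ha haM.1.2)) (hMq' b hbM.1 hb)
  have htD : ∀ d ∈ D, t * d * t⁻¹ ∈ D := hDn t htQ
  haveI hDMn : (D.subgroupOf M).Normal := ⟨fun d hd k => by
    have hd' : (d : G) ∈ D := hd
    refine hMC₀ _ (mul_mem (mul_mem k.2 d.2) (inv_mem k.2)) ?_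
    exact (normalCore_normal Cz).conj_mem _ (hDC₀ hd') _⟩
  have hMeq : M ≤ D ⊔ zpowers t := by
    have hQle : Q ≤ D ⊔ zpowers t := by
      rw [← sup_eq_of_card_prime hRQ hcardQ htQ htR]
      exact sup_le le_sup_right (hR.le.trans le_sup_left)
    have hpg : IsPGroup q (M ⧸ D.subgroupOf M) := fun x => by
      obtain ⟨k, rfl⟩ := QuotientGroup.mk_surjective x
      obtain ⟨a, b, hab, hke, ha, hb, haM, hbM⟩ := hpar k.1 M k.2
      refine ⟨1, (QuotientGroup.eq_one_iff (N := D.subgroupOf M) (k ^ q ^ 1)).2 ?_⟩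
      show ((k ^ q ^ 1 : M) : G) ∈ D
      rw [SubgroupClass.coe_pow, pow_one, hke, hab.mul_pow]
      exact mul_mem (special_pow hyq' (hMc a haM)).2.1 (Subgroup.pow_mem _ (hMq' b hbM hb) q)
    obtain ⟨j, hj⟩ := IsPGroup.iff_card.1 hpg
    have h1 : (D ⊔ zpowers t).relIndex M ∣ q ^ j := by
      rw [← hj, ← index_eq_card]
      exact relIndex_dvd_of_le_left M le_sup_left
    have h2 : (D ⊔ zpowers t).relIndex M ∣ Q.relIndex M := relIndex_dvd_of_le_left M hQle
    have h3 : ¬ q ∣ Q.relIndex M := fun hd => P.not_dvd_index (hd.trans ⟨M.index, by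
      rw [relIndex_mul_index hQM]⟩)
    exact relIndex_eq_one.1 (Nat.eq_one_of_dvd_coprimes
      (Nat.Coprime.pow_left j (hq.out.coprime_iff_not_dvd.2 h3)) h1 h2)
  haveI : C₀.Normal := normalCore_normal _
  set π₀ := QuotientGroup.mk' C₀ with hπ₀
  have hker : ∀ g, g ∈ C₀ → π₀ g = 1 := fun g hg => (QuotientGroup.eq_one_iff g).2 hg
  have hMimg : ∀ k ∈ M, π₀ k ∈ zpowers (π₀ t) := fun k hk => by
    have hle : D ⊔ zpowers t ≤ (zpowers (π₀ t)).comap π₀ :=
      sup_le (fun d hd => by rw [mem_comap, hker d (hDC₀ hd)]; exact one_mem _)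
        (zpowers_le.2 (mem_zpowers (π₀ t)))
    exact hle (hMeq hk)
  have hfrattini : ∀ g : G, ∃ c₀ ∈ C₀, c₀ * g ∈ N := by
    intro g
    have hg : Full q (R.map (MulAut.conj g).toMonoidHom) C₀ := by
      refine ⟨map_le_iff_le_comap.2 fun r hr => Normal.conj_mem inferInstance r (hR₀'.le hr) g,
        hR.pg.map _, ?_⟩
      rw [card_map_of_injective (MulAut.conj g).injective, hR₀'.card]
    obtain ⟨c₀, hc₀, hcc⟩ := hg.conj hR₀'
    refine ⟨c₀, hc₀, mem_normalizer_of_conj fun r hr => ?_⟩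
    have := hcc _ (mem_map_of_mem _ hr)
    rw [show c₀ * g * r * (c₀ * g)⁻¹ = c₀ * (g * r * g⁻¹) * c₀⁻¹ by group]
    exact this
  have htn : (zpowers (π₀ t)).Normal := ⟨fun x hx g' => by
    obtain ⟨g, rfl⟩ := QuotientGroup.mk'_surjective C₀ g'
    obtain ⟨i, hi⟩ := mem_zpowers_iff.1 hx
    subst hi
    rw [← conj_zpow]
    refine zpow_mem ?_ i
    obtain ⟨c₀, hc₀, hcg⟩ := hfrattini g
    have h1 := hMimg _ (hMn _ hcg t (hQM htQ))
    rwa [map_mul, map_mul, map_inv, map_mul, hker c₀ hc₀, one_mul] at h1⟩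
  have hqimg : ∀ u : G, IsQ q u → π₀ u ∈ zpowers (π₀ t) := by
    intro u hu
    obtain ⟨g, hg⟩ := exists_conj_mem_sylow P (isPGroup_zpowers hu)
    have h1 := hMimg _ (hQM (hg u (mem_zpowers u)))
    have h2 := htn.conj_mem _ h1 (π₀ g⁻¹)
    rwa [← map_inv, ← map_mul, ← map_mul, show g⁻¹ * (g * u * g⁻¹) * g⁻¹⁻¹ = u by group] at h2
  have htq1 : π₀ t ^ q = 1 := by
    rw [← map_pow]
    exact hker _ (hDC₀ (special_pow hyq' (hyc t htQ)).2.1)
  have hNq' : ∀ k ∈ N, ¬ q ∣ orderOf k → k ∈ D := by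
    intro k hk hkq
    have hcomm : Commute (π₀ k) (π₀ t) := by
      by_cases hk₀ : k ∈ C₀
      · rw [hker k hk₀]; exact Commute.one_left _
      · have hkZ : k ∉ center G := fun hz => hk₀ (hDC₀ (center_le_centralizer _ hz))
        obtain ⟨u, huk, huZ, hu⟩ := h.P2 hqm hkZ
        have hu₀ : u ∉ C₀ := by
          intro hu₀
          obtain ⟨S, huS, hS⟩ := exists_full (isPGroup_zpowers hu) (zpowers_le.2 hu₀)
          obtain ⟨c₀, hc₀, hcc⟩ := hS.conj hR₀'
          have huR := hcc u (huS (mem_zpowers u))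
          have hDu := h.cent_eq₂ hqm htop hy hyZ (hu.conj c₀) (not_center_conj huZ c₀)
            (mem_cent.1 (hR.le huR))
          have hkD : c₀ * k * c₀⁻¹ ∈ D := by
            rw [hD, ← hDu]
            exact (mem_cent_conj c₀).2 (cent_symm huk)
          refine hk₀ ?_
          have := Normal.conj_mem (inferInstance : C₀.Normal) _ (hDC₀ hkD) c₀⁻¹
          simpa [mul_assoc] using this
        obtain ⟨i, hi⟩ := mem_zpowers_iff.1 (hqimg u hu)
        have hku : Commute (π₀ k) (π₀ t ^ i) := hi ▸ (mem_cent.1 huk).symm.map π₀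
        have hot : orderOf (π₀ t) = q := orderOf_eq_prime htq1 fun e => htz
          (hC₀z ((QuotientGroup.eq_one_iff t).1 e))
        have hi0 : ¬ (q : ℤ) ∣ i := fun hd => hu₀ ((QuotientGroup.eq_one_iff u).1 (by
          show π₀ u = 1
          rw [← hi]
          exact orderOf_dvd_iff_zpow_eq_one.1 (hot.symm ▸ hd)))
        obtain ⟨r, s, hrs⟩ := Int.isCoprime_iff_nat_coprime.2 (show i.natAbs.Coprime (q : ℤ).natAbs by
          rw [Int.natAbs_natCast]
          exact (hq.out.coprime_iff_not_dvd.2 fun hd => hi0 (Int.natCast_dvd.2 hd)).symm)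
        have e : π₀ t = (π₀ t ^ i) ^ r := by
          rw [← zpow_mul, mul_comm i r, eq_sub_of_add_eq hrs, zpow_sub, zpow_one, mul_comm s,
            zpow_mul, zpow_natCast, htq1, one_zpow, inv_one, mul_one]
        rw [e]
        exact hku.zpow_right r
    set g := k * t * k⁻¹ with hg
    have hgM : g ∈ M := hMn k hk t (hQM htQ)
    have hd : g * t⁻¹ ∈ D := hMC₀ _ (mul_mem hgM (inv_mem (hQM htQ))) ((QuotientGroup.eq_one_iff _).1 (by
      show π₀ (k * t * k⁻¹ * t⁻¹) = 1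
      rw [map_mul, map_mul, map_mul, map_inv, map_inv, hcomm.eq, mul_inv_cancel_right, mul_inv_cancel]))
    obtain ⟨c', hc'⟩ : ∃ c', c' = t * y * t⁻¹ * y⁻¹ := ⟨_, rfl⟩
    have hc'Z : c' ∈ center G := hc' ▸ hyc t htQ
    have hty : t * y * t⁻¹ = c' * y := by rw [hc']; group
    set y' := k * y * k⁻¹ with hy'
    have hy'R : y' ∈ R := hNR k hk y hyR
    have hgy : g * y' * g⁻¹ = c' * y' := by
      calc g * y' * g⁻¹ = k * (t * y * t⁻¹) * k⁻¹ := by rw [hg, hy']; group
        _ = (k * c' * k⁻¹) * (k * y * k⁻¹) := by rw [hty]; group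
        _ = c' * y' := by rw [conj_center hc'Z, hy']
    have hty' : t * y' * t⁻¹ = c' * y' := by
      have hty'D : t * y' * t⁻¹ ∈ D := htD y' (hR.le hy'R)
      calc t * y' * t⁻¹ = (g * t⁻¹) * (t * y' * t⁻¹) * (g * t⁻¹)⁻¹ := by
            rw [(hDab _ hd _ hty'D).eq, mul_inv_cancel_right]
        _ = g * y' * g⁻¹ := by group
        _ = c' * y' := hgy
    obtain ⟨i, hi⟩ := mem_zpowers_iff.1 (himg y' hy'R)
    have hc₁ : (y ^ i)⁻¹ * y' ∈ center G := (QuotientGroup.eq_one_iff _).1 (by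
      show π ((y ^ i)⁻¹ * y') = 1
      rw [map_mul, map_inv, map_zpow, hi, inv_mul_cancel])
    have hpow : c' ^ i = c' := by
      have e : t * y' * t⁻¹ = c' ^ i * y' := by
        calc t * y' * t⁻¹ = t * (y ^ i * ((y ^ i)⁻¹ * y')) * t⁻¹ := by group
          _ = (t * y ^ i * t⁻¹) * (t * ((y ^ i)⁻¹ * y') * t⁻¹) := by group
          _ = (c' * y) ^ i * ((y ^ i)⁻¹ * y') := by rw [← conj_zpow, hty, conj_center hc₁]
          _ = c' ^ i * y' := by
            rw [((commute_center hc'Z y).symm).mul_zpow, mul_assoc, mul_inv_cancel_left]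
      exact mul_right_cancel (e.symm.trans hty')
    have hc'q : orderOf c' = q := orderOf_eq_prime (hc' ▸ (special_pow hyq' (hyc t htQ)).1) fun e =>
      htR (hmem t (mem_cent.2 (mul_inv_eq_iff_eq_mul.1 (by rw [hty, e, one_mul]))) htq)
    obtain ⟨l, hl⟩ : (q : ℤ) ∣ i - 1 := hc'q ▸ orderOf_dvd_iff_zpow_eq_one.2 (by
      rw [zpow_sub, hpow, zpow_one, mul_inv_cancel])
    refine hMq' k ⟨mem_cent.2 ?_, hk⟩ hkq
    have hπy : π y ^ (i - 1) = 1 := by
      rw [hl, zpow_mul, zpow_natCast, ← map_pow, show π (y ^ q) = 1 from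
        (QuotientGroup.eq_one_iff _).2 hyq', one_zpow]
    rw [zpow_sub, zpow_one, mul_inv_eq_one] at hπy
    rw [hπy, hy', map_mul, map_mul, map_inv] at hi
    exact mul_inv_eq_iff_eq_mul.1 hi.symm
  have htop₀ : ∀ g : G, π₀ g ∈ zpowers (π₀ t) := by
    intro g
    obtain ⟨c₀, hc₀, hcg⟩ := hfrattini g
    obtain ⟨a, b, -, hge, ha, hb, -, hbN⟩ := hpar _ N hcg
    have e : π₀ g = π₀ (c₀ * g) := by rw [map_mul, hker c₀ hc₀, one_mul]
    rw [e, hge, map_mul, hker b (hDC₀ (hNq' b hbN hb)), mul_one]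
    exact hqimg a ha
  -- Burnside in the core
  obtain ⟨S, hS⟩ := (hR.pg.of_equiv (subgroupOfEquivOfLe hR₀'.le).symm).exists_le_sylow
  have hSeq : (S : Subgroup C₀) = R.subgroupOf C₀ := by
    refine (eq_of_le_of_card_ge hS (le_of_eq ?_)).symm
    rw [Nat.card_congr (subgroupOfEquivOfLe hR₀'.le).toEquiv, hR₀'.card, S.card_eq_multiplicity]
    rfl
  have hburn : normalizer ((S : Subgroup C₀) : Set C₀) ≤
      centralizer ((S : Subgroup C₀) : Set C₀) := by
    intro g hg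
    have hgN : (g : G) ∈ N := mem_normalizer_of_conj fun r hr => by
      have h1 := (mem_normalizer_iff.1 hg ⟨r, hR₀'.le hr⟩).1
        (by show _ ∈ (S : Subgroup C₀); rw [hSeq]; exact hr)
      have h2 : g * ⟨r, hR₀'.le hr⟩ * g⁻¹ ∈ R.subgroupOf C₀ := hSeq ▸ h1
      exact h2
    obtain ⟨a, b, -, hge, ha, hb, haN, hbN⟩ := hpar (g : G) (N ⊓ C₀) ⟨hgN, g.2⟩
    have hgD : (g : G) ∈ D := by
      rw [hge]; exact mul_mem (hR.le (hR₀'.mem_of_isQ haN.2 ha haN.1)) (hNq' b hbN.1 hb)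
    refine mem_centralizer_iff.2 fun r hr => Subtype.ext ?_
    rw [SetLike.mem_coe, hSeq] at hr
    exact (hDab _ (hR.le hr) _ hgD).eq
  set K := (MonoidHom.transferSylow S hburn).ker.map C₀.subtype with hK
  have hcompl := MonoidHom.ker_transferSylow_isComplement' S hburn
  have hKmem : ∀ b : G, b ∈ K ↔ ¬ q ∣ orderOf b := by
    intro b
    constructor
    · rintro ⟨k, hk, rfl⟩ hd
      have hd' : q ∣ orderOf k := by
        rwa [← orderOf_injective C₀.subtype C₀.subtype_injective]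
      exact MonoidHom.not_dvd_card_ker_transferSylow S hburn
        (hd'.trans (orderOf_dvd_natCard _ hk))
    · intro hb
      obtain ⟨i, hi⟩ := mem_zpowers_iff.1 (htop₀ b)
      have h1 : π₀ b ^ q = 1 := by rw [← hi, ← zpow_natCast, ← zpow_mul, mul_comm, zpow_mul, zpow_natCast, htq1, one_zpow]
      have hb₀ : b ∈ C₀ := (QuotientGroup.eq_one_iff b).1 (IsQ.eq_one (q := q) ⟨1, by rw [pow_one]; exact h1⟩
        fun hd => hb (hd.trans (orderOf_map_dvd π₀ b)))
      obtain ⟨j, hj⟩ := IsPGroup.iff_card.1 S.isPGroup'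
      obtain ⟨e, he⟩ := exists_pow_eq_self_of_coprime (x := (⟨b, hb₀⟩ : C₀))
        (n := (MonoidHom.transferSylow S hburn).ker.index) (by
          rw [hcompl.symm.index_eq_card, hj, Subgroup.orderOf_mk]
          exact Nat.Coprime.pow_left _ (hq.out.coprime_iff_not_dvd.2 hb))
      exact ⟨⟨b, hb₀⟩, he ▸ pow_mem (pow_index_mem _ _) e, rfl⟩
  have hKc : Compl G q K := by
    refine ⟨⟨fun b hb g => (hKmem _).2 (by rw [orderOf_conj']; exact (hKmem b).1 hb)⟩, ?_, ?_⟩
    · rw [hK, card_map_of_injective C₀.subtype_injective]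
      exact MonoidHom.not_dvd_card_ker_transferSylow S hburn
    · obtain ⟨j, hj⟩ := IsPGroup.iff_card.1 S.isPGroup'
      have hC₀idx : C₀.index ∣ q := by
        rw [index_eq_card]
        have htop' : (⊤ : Subgroup (G ⧸ C₀)) = zpowers (π₀ t) := (eq_top_iff.2 fun x _ => by
          obtain ⟨g, rfl⟩ := QuotientGroup.mk'_surjective C₀ x
          exact htop₀ g).symm
        rw [← card_top (G := G ⧸ C₀), htop', Nat.card_zpowers]
        exact orderOf_dvd_of_pow_eq_one htq1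
      obtain ⟨i, -, hi⟩ := (Nat.dvd_prime_pow hq.out).1 (show C₀.index ∣ q ^ 1 by rwa [pow_one])
      exact ⟨j + i, by rw [hK, index_map_subtype, hcompl.symm.index_eq_card, hj, hi, pow_add]⟩
  refine ⟨P, K, y, z, t, R, hKc, hy, hyZ, (hKmem z).2 hzq, hzZ, hzD, ?_, hR, hRQ, hmem, hRn, htQ, htR⟩
  rintro _ ⟨k, -, rfl⟩
  exact hC₀z k.2

include h hqm htop in
theorem Hyp.no_type1_false : False := by
  obtain ⟨P, K, y, z, t, R, hK, hy, hyZ, hzK, hzZ, hzy, hKz, hR, hRQ, hmem, hRn, htQ, htR⟩ :=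
    h.exists_compl hqm htop
  set Q : Subgroup G := (P : Subgroup G) with hQ
  haveI := hK.normal
  obtain ⟨hvq, hcardR⟩ := h.sylow_facts hqm htop P
  have hDab := h.cent_abelian hqm htop hy hyZ
  have hRy := hR
  have hQZ : ∀ {u : G} {S : Subgroup G}, u ∈ Q → u ∉ center G → IsQ q u →
      Full q S (centralizer ({u} : Set G)) → u ∈ S → S ≤ Q ∧ (∀ x ∈ Q, ∀ a ∈ S, x * a * x⁻¹ ∈ S) := by
    intro u S hu huZ huq hS huS
    have hle : S ≤ Q := by
      rw [← h.full_eq_sup hqm htop huq huZ hS huS, inf_center_eq hS hR]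
      exact sup_le (zpowers_le.2 hu) (inf_le_left.trans hRQ)
    exact ⟨hle, conj_mem_of_index P.isPGroup' hle
      (by rw [hQ, (sylow_full P).card, hS.card, hvq u huZ, pow_succ'])⟩
  have hcn : ∀ u ∈ Q, u ∉ center G → ∀ x ∈ Q, ∀ c ∈ centralizer ({u} : Set G),
      x * c * x⁻¹ ∈ centralizer ({u} : Set G) := by
    intro u hu huZ x hx c hc
    have huq := isQ_of_mem P.isPGroup' hu
    obtain ⟨S, hS, hSmem, -, -⟩ := h.exists_R hqm huq huZ
    have hSn := (hQZ hu huZ huq hS (hSmem u (self_mem_cent u) huq)).2 x hx u (hSmem u (self_mem_cent u) huq)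
    have e := h.cent_eq₂ hqm htop huq huZ (huq.conj x) (not_center_conj huZ x) (mem_cent.1 (hS.le hSn))
    exact e ▸ (mem_cent_conj x).2 hc
  have hzfix : ∀ u ∈ Q, u ∉ R → ¬ Commute u z := by
    intro u hu huR hc
    have hfull : Full q R (centralizer ({z} : Set G)) :=
      ⟨fun r hr => mem_cent.2 (hDab r (hR.le hr) z hzy), hR.pg, by rw [hR.card, h.vq_eq hqm hyZ hzZ]⟩
    exact huR (hfull.mem_of_isQ (mem_cent.2 hc) (isQ_of_mem P.isPGroup' hu)
      (mem_normalizer_of_conj (hRn u hu)))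
  obtain ⟨a, ha⟩ := h.eq_pow hqm
  have htq := isQ_of_mem P.isPGroup' htQ
  have htZ : t ∉ center G := fun hz => htR (central_mem_full hR hz htq)
  -- the centralizers in `K` of elements outside `R` are central in `K`
  have hout : ∀ u ∈ Q, u ∉ R → ∀ x ∈ K, Commute u x → x ∈ centralizer (K : Set G) := by
    intro u hu huR x hx hux
    have huq := isQ_of_mem P.isPGroup' hu
    have huZ : u ∉ center G := fun hz => huR (central_mem_full hR hz huq)
    suffices hKx : K ≤ centralizer ({x} : Set G) from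
      mem_centralizer_iff.2 fun k hk => (mem_cent.1 (hKx hk)).eq
    by_cases hxZ : x ∈ center G
    · exact fun k _ => mem_cent.2 (commute_center hxZ k)
    rcases h.idx hxZ with e | e
    · exact hK.le_cent (j := a) (by rw [e, ha])
    · exfalso
      have hle : centralizer ({u} : Set G) ≤ centralizer ({x} : Set G) :=
        h.coprime_central hqm htop huq huZ (mem_cent.2 hux.symm) (hK.not_dvd hx)
      have he : centralizer ({u} : Set G) ⊓ K = centralizer ({x} : Set G) ⊓ K :=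
        eq_of_le_of_card_ge (inf_le_inf_right _ hle) (le_of_eq (Nat.eq_of_mul_eq_mul_right
          (show 0 < n by have := h.hn; omega)
          ((h.dvd_n_card hK ha e).trans (h.dvd_n_card hK ha (htop u huq huZ)).symm)))
      exact hzfix u hu huR (mem_cent.1 (he.ge ⟨cent_symm (hKz hx), hzK⟩).1).symm
  obtain ⟨A, hA, -, e, heA, heZ⟩ := h.exists_A hqm htop htq htZ
  have hte : Commute t e := (mem_cent.1 ((hA e).1 heA).1).symm
  have heK : e ∈ K := hK.mem ((hA e).1 heA).2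
  have heKc : e ∈ centralizer (K : Set G) := hout t htQ htR e heK hte
  have hey : e ∉ centralizer ({y} : Set G) := by
    intro hey
    have hfull : Full q R (centralizer ({e} : Set G)) :=
      ⟨fun r hr => mem_cent.2 (hDab r (hR.le hr) e hey), hR.pg, by rw [hR.card, h.vq_eq hqm hyZ heZ]⟩
    exact htR (hfull.mem_of_isQ (mem_cent.2 hte) htq (mem_normalizer_of_conj (hRn t htQ)))
  have hallQ : ∀ u ∈ Q, u ∉ center G → ∀ x ∈ K, Commute u x → x ∈ centralizer (K : Set G) := by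
    intro u hu huZ x hx hux
    by_cases huR : u ∈ R
    · have hxy : x ∈ centralizer ({y} : Set G) := by
        rw [← h.cent_eq₂ hqm htop hy hyZ (isQ_of_mem hR.pg huR) huZ (mem_cent.1 (hR.le huR))]
        exact mem_cent.2 hux.symm
      suffices hKx : K ≤ centralizer ({x} : Set G) from
        mem_centralizer_iff.2 fun k hk => (mem_cent.1 (hKx hk)).eq
      by_cases hxZ : x ∈ center G
      · exact fun k _ => mem_cent.2 (commute_center hxZ k)
      rcases h.idx hxZ with e' | e'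
      · exact hK.le_cent (j := a) (by rw [e', ha])
      · exfalso
        have he : centralizer ({y} : Set G) ⊓ K = centralizer ({x} : Set G) ⊓ K :=
          eq_of_le_of_card_ge (inf_le_inf_right _ (h.coprime_central hqm htop hy hyZ hxy (hK.not_dvd hx)))
            (le_of_eq (Nat.eq_of_mul_eq_mul_right (show 0 < n by have := h.hn; omega)
              ((h.dvd_n_card hK ha e').trans (h.dvd_n_card hK ha (htop y hy hyZ)).symm)))
        exact hey (he.ge ⟨mem_cent.2 (mem_centralizer_iff.1 heKc x hx).symm, heK⟩).1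
    · exact hout u hu huR x hx hux
  have hKab : ∀ x ∈ K, x ∈ centralizer (K : Set G) := by
    intro x hx
    by_cases hxZ : x ∈ center G
    · exact center_le_centralizer _ hxZ
    obtain ⟨u, hux, huZ, hu⟩ := h.P2 hqm hxZ
    obtain ⟨g, hg⟩ := exists_conj_mem_sylow P (isPGroup_zpowers hu)
    have h1 := hallQ _ (hg u (mem_zpowers u)) (not_center_conj huZ g) (g * x * g⁻¹)
      (hK.normal.conj_mem x hx g) (commute_conj (mem_cent.1 hux) g)
    have h2 := Normal.conj_mem (inferInstance : (centralizer (K : Set G)).Normal) _ h1 g⁻¹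
    simpa [mul_assoc] using h2
  have hKQ : ∀ g : G, ∃ k ∈ K, ∃ p ∈ Q, g = k * p := by
    intro g
    have hsup : K ⊔ Q = ⊤ := by
      obtain ⟨j, hj⟩ := hK.index
      rw [← index_eq_one]
      exact Nat.eq_one_of_dvd_coprimes (Nat.Coprime.pow_left j (hq.out.coprime_iff_not_dvd.2 P.not_dvd_index))
        (hj ▸ index_dvd_of_le le_sup_left) (index_dvd_of_le le_sup_right)
    obtain ⟨k, hk, p, hp, hkp⟩ := mem_sup_of_normal_left.1 (hsup ▸ mem_top g : g ∈ K ⊔ Q)
    exact ⟨k, hk, p, hp, hkp.symm⟩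
  have hzeZ : z * e ∉ center G := fun hc => hey (by
    have h1 : z * e ∈ centralizer ({y} : Set G) := center_le_centralizer _ hc
    simpa using mul_mem (inv_mem hzy) h1)
  obtain ⟨u₁, hu₁, hu₁Z, hu₁q⟩ := h.P2 hqm hzeZ
  obtain ⟨g, hg⟩ := exists_conj_mem_sylow P (isPGroup_zpowers hu₁q)
  obtain ⟨k, hk, p, hp, hgkp⟩ := hKQ g⁻¹
  obtain ⟨u, hudef⟩ : ∃ u, u = k⁻¹ * u₁ * k := ⟨_, rfl⟩
  have huQ : u ∈ Q := by
    have h1 := mul_mem (mul_mem hp (hg u₁ (mem_zpowers u₁))) (inv_mem hp)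
    rwa [show p * (g * u₁ * g⁻¹) * p⁻¹ = u by
      rw [hudef, show g = p⁻¹ * k⁻¹ by rw [← inv_inv g, hgkp, mul_inv_rev]]; group] at h1
  have huZ : u ∉ center G := by
    rw [hudef]; simpa using not_center_conj hu₁Z k⁻¹
  have huq := isQ_of_mem P.isPGroup' huQ
  have huze : Commute u (z * e) := by
    have h1 := commute_conj (mem_cent.1 hu₁) k⁻¹
    have hk' : k⁻¹ * (z * e) * k⁻¹⁻¹ = z * e := by
      rw [inv_inv, mul_assoc, ← mem_centralizer_iff.1 (hKab (z * e) (mul_mem hzK heK)) k hk,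
        inv_mul_cancel_left]
    rw [hk', inv_inv] at h1
    rw [hudef]; exact h1
  have huR : u ∉ R := by
    intro huR
    refine hey ?_
    have h1 : z * e ∈ centralizer ({y} : Set G) := by
      rw [← h.cent_eq₂ hqm htop hy hyZ huq huZ (mem_cent.1 (hR.le huR))]
      exact mem_cent.2 huze.symm
    simpa using mul_mem (inv_mem hzy) h1
  -- the element `f`
  obtain ⟨f, hf⟩ : ∃ f, f = z⁻¹ * (u * z * u⁻¹) := ⟨_, rfl⟩
  have hyQ : y ∈ Q := hRQ (hmem y (self_mem_cent y) hy)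
  have hfy : f ∈ centralizer ({y} : Set G) := hf ▸ mul_mem (inv_mem hzy) (hcn y hyQ hyZ u huQ z hzy)
  have hfe : f = e * (u * e * u⁻¹)⁻¹ := by
    have h1 : u * z * u⁻¹ * (u * e * u⁻¹) = z * e := by
      calc u * z * u⁻¹ * (u * e * u⁻¹) = u * (z * e) * u⁻¹ := by group
        _ = z * e := by rw [huze.eq, mul_inv_cancel_right]
    rw [eq_mul_inv_iff_mul_eq, hf, mul_assoc, h1, inv_mul_cancel_left]
  have hft : f ∈ centralizer ({t} : Set G) := hfe ▸
    mul_mem ((hA e).1 heA).1 (inv_mem (hcn t htQ htZ u huQ e ((hA e).1 heA).1))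
  have hfK : f ∈ K := hf ▸ mul_mem (inv_mem hzK) (hK.normal.conj_mem z hzK u)
  have hfZ : f ∈ center G := by
    by_contra hfZ
    have hfull : Full q R (centralizer ({f} : Set G)) :=
      ⟨fun r hr => mem_cent.2 (hDab r (hR.le hr) f hfy), hR.pg, by rw [hR.card, h.vq_eq hqm hyZ hfZ]⟩
    exact htR (hfull.mem_of_isQ (cent_symm hft) htq (mem_normalizer_of_conj (hRn t htQ)))
  have hconj : u * z * u⁻¹ = f * z := by
    rw [← mem_center_iff.1 hfZ z, hf, mul_inv_cancel_left]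
  have huqZ : u ^ q ∈ center G := by
    obtain ⟨S, hS, hSmem, -, -⟩ := h.exists_R hqm huq huZ
    have huS := hSmem u (self_mem_cent u) huq
    obtain ⟨hSQ, -⟩ := hQZ huQ huZ huq hS huS
    have hidx : ((S ⊓ center G).subgroupOf S).index = q := by
      have e' := ((S ⊓ center G).subgroupOf S).card_mul_index
      rw [Nat.card_congr (subgroupOfEquivOfLe inf_le_left).toEquiv, hcardR u S huZ hS, mul_comm q] at e'
      exact Nat.eq_of_mul_eq_mul_left Nat.card_pos e'
    haveI : ((S ⊓ center G).subgroupOf S).Normal := ⟨fun x hx c => by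
      have hx' : (x : G) ∈ center G := hx.2
      refine ⟨S.mul_mem (S.mul_mem c.2 (x : S).2) (S.inv_mem c.2), ?_⟩
      show (c : G) * x * (c : G)⁻¹ ∈ center G
      rw [conj_center hx']; exact hx'⟩
    have h1 := pow_index_mem ((S ⊓ center G).subgroupOf S) (⟨u, huS⟩ : S)
    rw [hidx] at h1
    exact h1.2
  have h1 := conj_pow_center hfZ hconj q
  rw [(commute_center huqZ z).symm.eq, mul_inv_cancel_right, eq_comm, mul_eq_right] at h1
  have hf1 : f = 1 := IsQ.eq_one (q := q) ⟨1, by rw [pow_one]; exact h1⟩ (hK.not_dvd hfK)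
  rw [hf1, one_mul, mul_inv_eq_iff_eq_mul] at hconj
  exact hzfix u huQ huR hconj

end CfsgLib.ThreeCop
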