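import Cfsg.Agent.Lib.PGroup.CoprimeTopSizes
import Cfsg.Agent.Lib.PGroup.JordanCover
import Cfsg.Agent.Lib.Coprime.Solvable

/-!
Tools for groups with three class sizes `1, m, m n`: maximal `q`-subgroups of a subgroup, elements
acting on an abelian subgroup without fixed points outside the center.
-/

set_option autoImplicit false
set_option linter.style.haveILetI false
set_option linter.unusedSectionVars false

namespace CfsgLib.ThreeCop

open Subgroup
open CfsgLib.ClassGraph (cidx)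

variable {G : Type*} [Group G] [Finite G]

/-- `a` has `q`-power order. -/
def IsQ (q : ℕ) (a : G) : Prop := ∃ k : ℕ, a ^ q ^ k = 1

/-- The exponent of `q` in the order of a subgroup. -/
noncomputable def vq (q : ℕ) (H : Subgroup G) : ℕ := (Nat.card H).factorization q

theorem mem_cent {a b : G} : a ∈ centralizer ({b} : Set G) ↔ Commute a b :=
  mem_centralizer_singleton_iff

theorem self_mem_cent (a : G) : a ∈ centralizer ({a} : Set G) := mem_cent.2 (Commute.refl a)

theorem cent_symm {a b : G} (h : a ∈ centralizer ({b} : Set G)) : b ∈ centralizer ({a} : Set G) :=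
  mem_cent.2 (mem_cent.1 h).symm

theorem commute_center {z : G} (hz : z ∈ center G) (g : G) : Commute g z :=
  mem_center_iff.1 hz g

theorem center_of_le_cent {a b : G} (hb : b ∈ center G)
    (h : centralizer ({b} : Set G) ≤ centralizer ({a} : Set G)) : a ∈ center G :=
  mem_center_iff.2 fun g => mem_cent.1 (h (mem_cent.2 (commute_center hb g)))

theorem cent_mul_center {a c : G} (hc : c ∈ center G) :
    centralizer ({a * c} : Set G) = centralizer ({a} : Set G) := by
  ext g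
  rw [mem_cent, mem_cent]
  constructor
  · intro h
    simpa using h.mul_right (commute_center ((center G).inv_mem hc) g)
  · exact fun h => h.mul_right (commute_center hc g)

theorem conj_center {z : G} (hz : z ∈ center G) (x : G) : x * z * x⁻¹ = z := by
  rw [mem_center_iff.1 hz x, mul_inv_cancel_right]

theorem not_center_conj {a : G} (ha : a ∉ center G) (x : G) : x * a * x⁻¹ ∉ center G := fun h =>
  ha (by simpa [mul_assoc] using (inferInstance : (center G).Normal).conj_mem _ h x⁻¹)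

theorem commute_conj {a b : G} (h : Commute a b) (x : G) :
    Commute (x * a * x⁻¹) (x * b * x⁻¹) := by
  show x * a * x⁻¹ * (x * b * x⁻¹) = x * b * x⁻¹ * (x * a * x⁻¹)
  calc x * a * x⁻¹ * (x * b * x⁻¹) = x * (a * b) * x⁻¹ := by group
    _ = x * (b * a) * x⁻¹ := by rw [h.eq]
    _ = _ := by group

theorem mem_cent_conj {a b : G} (x : G) :
    x * a * x⁻¹ ∈ centralizer ({x * b * x⁻¹} : Set G) ↔ a ∈ centralizer ({b} : Set G) := by
  rw [mem_cent, mem_cent]
  refine ⟨fun h => ?_, fun h => commute_conj h x⟩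
  simpa [mul_assoc] using commute_conj h x⁻¹

section Q

variable {q : ℕ} [hq : Fact q.Prime]

theorem isQ_of_mem {R : Subgroup G} (hR : IsPGroup q R) {a : G} (ha : a ∈ R) : IsQ q a := by
  obtain ⟨k, hk⟩ := hR ⟨a, ha⟩
  exact ⟨k, congrArg Subtype.val hk⟩

theorem isPGroup_zpowers {a : G} (ha : IsQ q a) : IsPGroup q (zpowers a) := by
  obtain ⟨k, hk⟩ := ha
  obtain ⟨j, -, hj⟩ := (Nat.dvd_prime_pow hq.out).1 (orderOf_dvd_of_pow_eq_one hk)
  exact IsPGroup.of_card (n := j) (by rw [Nat.card_zpowers, hj])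

theorem IsQ.coprime {a b : G} (ha : IsQ q a) (hb : ¬ q ∣ orderOf b) :
    (orderOf a).Coprime (orderOf b) := by
  obtain ⟨k, hk⟩ := ha
  exact Nat.Coprime.coprime_dvd_left (orderOf_dvd_of_pow_eq_one hk)
    (Nat.Coprime.pow_left k (hq.out.coprime_iff_not_dvd.2 hb))

theorem IsQ.eq_one {a : G} (ha : IsQ q a) (hb : ¬ q ∣ orderOf a) : a = 1 :=
  orderOf_eq_one_iff.1 (by simpa using ha.coprime hb)

theorem IsQ.eq_one_of_pow {a : G} (ha : IsQ q a) {k : ℕ} (hk : a ^ k = 1) (hqk : ¬ q ∣ k) : a = 1 :=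
  ha.eq_one fun h => hqk (h.trans (orderOf_dvd_of_pow_eq_one hk))

theorem IsQ.conj {a : G} (ha : IsQ q a) (x : G) : IsQ q (x * a * x⁻¹) := by
  obtain ⟨k, hk⟩ := ha
  exact ⟨k, by rw [conj_pow, hk, mul_one, mul_inv_cancel]⟩

theorem orderOf_conj' (a x : G) : orderOf (x * a * x⁻¹) = orderOf a :=
  MulEquiv.orderOf_eq (MulAut.conj x) a

theorem IsQ.not_dvd_of_ne {s : ℕ} (hs : s.Prime) (hne : s ≠ q) {a : G} (ha : IsQ q a) :
    ¬ s ∣ orderOf a := fun h => by
  obtain ⟨k, hk⟩ := ha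
  exact hne ((Nat.prime_dvd_prime_iff_eq hs hq.out).1
    (hs.dvd_of_dvd_pow (h.trans (orderOf_dvd_of_pow_eq_one hk))))

/-- Split an element into commuting `q` and `q'` parts inside any subgroup containing it. -/
theorem parts (q : ℕ) [hq : Fact q.Prime] (g : G) :
    ∃ a b : G, Commute a b ∧ g = a * b ∧ IsQ q a ∧ ¬ q ∣ orderOf b ∧
      a ∈ zpowers g ∧ b ∈ zpowers g := by
  obtain ⟨a, b, hc, hab, ⟨e, he⟩, -, hb, -⟩ := PGroup.exists_split g hq.out
  have ha : IsQ q a := ⟨e, orderOf_dvd_iff_pow_eq_one.1 he⟩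
  refine ⟨a, b, hc, hab.symm, ha, hb, ?_, ?_⟩
  · rw [← hab]; exact ClassGraph.mem_zpowers_mul' hc (ha.coprime hb)
  · rw [← hab, hc.eq]; exact ClassGraph.mem_zpowers_mul' hc.symm (ha.coprime hb).symm

theorem card_le_of_pGroup {S H : Subgroup G} (hS : IsPGroup q S) (hle : S ≤ H) :
    Nat.card S ≤ q ^ vq q H := by
  obtain ⟨j, hj⟩ := IsPGroup.iff_card.1 hS
  rw [hj]
  exact Nat.pow_le_pow_right hq.out.pos ((hq.out.pow_dvd_iff_le_factorization Nat.card_pos.ne').1
    (hj ▸ card_dvd_of_le hle))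

/-- `R` is a Sylow `q`-subgroup of `H`. -/
structure Full (q : ℕ) (R H : Subgroup G) : Prop where
  le : R ≤ H
  pg : IsPGroup q R
  card : Nat.card R = q ^ vq q H

theorem exists_full {S H : Subgroup G} (hS : IsPGroup q S) (hle : S ≤ H) :
    ∃ R, S ≤ R ∧ Full q R H := by
  have hS' : IsPGroup q (S.subgroupOf H) := hS.of_equiv (subgroupOfEquivOfLe hle).symm
  obtain ⟨P, hP⟩ := hS'.exists_le_sylow
  refine ⟨(P : Subgroup H).map H.subtype, ?_, map_subtype_le _, P.isPGroup'.map _, ?_⟩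
  · intro x hx
    exact ⟨⟨x, hle hx⟩, hP hx, rfl⟩
  · rw [card_map_of_injective H.subtype_injective, P.card_eq_multiplicity]
    rfl

theorem exists_full' (q : ℕ) [Fact q.Prime] (H : Subgroup G) : ∃ R, Full q R H :=
  (exists_full (IsPGroup.of_bot) (bot_le : ⊥ ≤ H)).imp fun _ h => h.2

theorem Full.eq_of_le {R S H : Subgroup G} (h : Full q R H) (hRS : R ≤ S) (hS : IsPGroup q S)
    (hle : S ≤ H) : S = R :=
  (eq_of_le_of_card_ge hRS (h.card ▸ card_le_of_pGroup hS hle)).symm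

theorem Full.conj {R₁ R₂ H : Subgroup G} (h₁ : Full q R₁ H) (h₂ : Full q R₂ H) :
    ∃ h ∈ H, ∀ x : G, x ∈ R₁ → h * x * h⁻¹ ∈ R₂ := by
  have key : ∀ {R : Subgroup G}, Full q R H → ∃ P : Sylow q H, (P : Subgroup H) = R.subgroupOf H := by
    intro R hR
    obtain ⟨P, hP⟩ := (hR.pg.of_equiv (subgroupOfEquivOfLe hR.le).symm).exists_le_sylow
    refine ⟨P, (eq_of_le_of_card_ge hP (le_of_eq ?_)).symm⟩
    rw [Nat.card_congr (subgroupOfEquivOfLe hR.le).toEquiv, hR.card, P.card_eq_multiplicity]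
    rfl
  obtain ⟨P₁, e₁⟩ := key h₁
  obtain ⟨P₂, e₂⟩ := key h₂
  obtain ⟨g, hg⟩ := MulAction.exists_smul_eq H P₁ P₂
  refine ⟨g, g.2, fun x hx => ?_⟩
  have h : (⟨x, h₁.le hx⟩ : H) ∈ (P₁ : Subgroup H) := by rw [e₁]; exact hx
  have h' := smul_mem_pointwise_smul _ (MulAut.conj g) _ h
  rw [← Sylow.pointwise_smul_def] at h'
  have h'' : MulAut.conj g ⟨x, h₁.le hx⟩ ∈ (P₂ : Subgroup H) := by
    rw [← hg]; exact h'
  rw [e₂] at h''
  exact h''

theorem sylow_full (P : Sylow q G) : Full q (P : Subgroup G) ⊤ := by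
  refine ⟨le_top, P.isPGroup', ?_⟩
  rw [P.card_eq_multiplicity, vq, card_top]

/-- A `q`-element normalising a `q`-subgroup generates a `q`-group with it. -/
theorem isPGroup_sup_zpowers {R : Subgroup G} (hR : IsPGroup q R) {a : G} (ha : IsQ q a)
    (hn : a ∈ normalizer (R : Set G)) : IsPGroup q ↥(zpowers a ⊔ R) :=
  IsPGroup.to_sup_of_normal_right' (isPGroup_zpowers ha) hR (zpowers_le.2 hn)

theorem Full.mem_of_isQ {R H : Subgroup G} (h : Full q R H) {a : G} (haH : a ∈ H) (ha : IsQ q a)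
    (hn : a ∈ normalizer (R : Set G)) : a ∈ R := by
  have e := h.eq_of_le le_sup_right (isPGroup_sup_zpowers h.pg ha hn)
    (sup_le (zpowers_le.2 haH) h.le)
  rw [← e]
  exact mem_sup_left (mem_zpowers a)

theorem mem_normalizer_of_conj {R : Subgroup G} {g : G} (h : ∀ x ∈ R, g * x * g⁻¹ ∈ R) :
    g ∈ normalizer (R : Set G) := by
  have e : R.map (MulAut.conj g).toMonoidHom = R := by
    refine eq_of_le_of_card_ge (map_le_iff_le_comap.2 fun x hx => h x hx) (le_of_eq ?_)
    rw [card_map_of_injective (MulAut.conj g).injective]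
  refine mem_normalizer_iff.2 fun x => ⟨h x, fun hx => ?_⟩
  rw [← e] at hx
  obtain ⟨y, hy, hxy⟩ := hx
  rwa [← (MulAut.conj g).injective hxy]

/-- A nontrivial part of a `q`-group outside the center has an element that is central modulo
the center and has its `q`-th power central. -/
theorem exists_special {Q S : Subgroup G} (hQ : IsPGroup q Q) (hSQ : S ≤ Q)
    (hSn : ∀ x ∈ Q, ∀ s ∈ S, x * s * x⁻¹ ∈ S) (hS : ¬ S ≤ center G) :
    ∃ w ∈ S, w ∉ center G ∧ w ^ q ∈ center G ∧ ∀ x ∈ Q, x * w * x⁻¹ * w⁻¹ ∈ center G := by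
  set π := QuotientGroup.mk' (center G)
  set Qb := Q.map π with hQb
  set N := (S.map π).subgroupOf Qb
  haveI : Group.IsNilpotent Qb := (hQ.map π).isNilpotent
  haveI : N.Normal := by
    constructor
    rintro ⟨_, hs⟩ ⟨s, hsS, rfl⟩ ⟨_, x, hx, rfl⟩
    refine ⟨x * s * x⁻¹, hSn x hx s hsS, ?_⟩
    simp [map_mul, map_inv]
  have hN : N ≠ ⊥ := by
    intro h
    refine hS fun s hs => (QuotientGroup.eq_one_iff s).1 ?_
    have h1 : (⟨π s, mem_map_of_mem π (hSQ hs)⟩ : Qb) ∈ N := mem_map_of_mem π hs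
    rw [h, mem_bot] at h1
    exact congrArg Subtype.val h1
  obtain ⟨⟨v, hv⟩, hv1⟩ :=
    Subgroup.ne_bot_iff_exists_ne_one.1 (CfsgLib.Coprime.nilpotent_inf_center_ne_bot N hN)
  obtain ⟨hvN, hvC⟩ := Subgroup.mem_inf.1 hv
  have hv0 : v ≠ 1 := fun h => hv1 (Subtype.ext h)
  -- a power of order `q`
  obtain ⟨j, hj⟩ := IsPGroup.iff_orderOf.1 (hQ.map π) v
  obtain ⟨i, rfl⟩ : ∃ i, j = i + 1 :=
    ⟨j - 1, (Nat.succ_pred fun h => hv0 (orderOf_eq_one_iff.1 (by rw [hj, h, pow_zero]))).symm⟩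
  obtain ⟨w, hw, hwv⟩ := (Subgroup.pow_mem N hvN (q ^ i) : v ^ q ^ i ∈ N)
  simp only [coe_subtype] at hwv
  have hwC : v ^ q ^ i ∈ center Qb := Subgroup.pow_mem _ hvC _
  refine ⟨w, hw, fun hwZ => ?_, ?_, fun x hx => ?_⟩
  · have h1 : π w = 1 := (QuotientGroup.eq_one_iff w).2 hwZ
    have h2 : v ^ q ^ i = 1 := Subtype.ext (hwv.symm.trans h1)
    have := orderOf_dvd_of_pow_eq_one h2
    rw [hj] at this
    have := (Nat.pow_dvd_pow_iff_le_right hq.out.one_lt).1 this
    omega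
  · refine (QuotientGroup.eq_one_iff _).1 ?_
    show π (w ^ q) = 1
    rw [map_pow, hwv]
    rw [← SubgroupClass.coe_pow, ← pow_mul, ← pow_succ, ← hj, pow_orderOf_eq_one]
    rfl
  · refine (QuotientGroup.eq_one_iff _).1 ?_
    show π (x * w * x⁻¹ * w⁻¹) = 1
    have h1 := congrArg Subtype.val (mem_center_iff.1 hwC ⟨π x, mem_map_of_mem π hx⟩)
    simp only [Subgroup.coe_mul] at h1
    rw [map_mul, map_mul, map_mul, map_inv, map_inv, hwv, h1, mul_inv_cancel_right, mul_inv_cancel]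

theorem conj_pow_center {x w c : G} (hc : c ∈ center G) (h : x * w * x⁻¹ = c * w) :
    ∀ j : ℕ, x ^ j * w * (x ^ j)⁻¹ = c ^ j * w := by
  intro j
  induction j with
  | zero => simp
  | succ j ih =>
    calc x ^ (j + 1) * w * (x ^ (j + 1))⁻¹ = x * (x ^ j * w * (x ^ j)⁻¹) * x⁻¹ := by
          rw [pow_succ']; group
      _ = (x * c ^ j * x⁻¹) * (x * w * x⁻¹) := by rw [ih]; group
      _ = c ^ (j + 1) * w := by rw [conj_center (Subgroup.pow_mem _ hc j), h, pow_succ, mul_assoc]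

/-- Consequences of being central modulo the center. -/
theorem special_pow {w x : G} (hwq : w ^ q ∈ center G) (hxw : x * w * x⁻¹ * w⁻¹ ∈ center G) :
    (x * w * x⁻¹ * w⁻¹) ^ q = 1 ∧ x ^ q ∈ centralizer ({w} : Set G) ∧
      centralizer ({x * w * x⁻¹} : Set G) = centralizer ({w} : Set G) := by
  obtain ⟨c, hc⟩ : ∃ c, c = x * w * x⁻¹ * w⁻¹ := ⟨_, rfl⟩
  rw [← hc] at hxw ⊢
  have hxe : x * w * x⁻¹ = c * w := by rw [hc]; group
  have hcw : Commute c w := (commute_center hxw w).symm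
  have hcq : c ^ q = 1 := by
    have h1 : x * w ^ q * x⁻¹ = (c * w) ^ q := by rw [← conj_pow, hxe]
    rw [conj_center hwq, hcw.mul_pow, eq_comm, mul_eq_right] at h1
    exact h1
  refine ⟨hcq, mem_cent.2 ?_, ?_⟩
  · have e : ∀ j : ℕ, x ^ j * w * (x ^ j)⁻¹ = c ^ j * w := by
      intro j
      induction j with
      | zero => simp
      | succ j ih =>
        calc x ^ (j + 1) * w * (x ^ (j + 1))⁻¹ = x * (x ^ j * w * (x ^ j)⁻¹) * x⁻¹ := by
              rw [pow_succ']; group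
          _ = (x * c ^ j * x⁻¹) * (x * w * x⁻¹) := by rw [ih]; group
          _ = c ^ (j + 1) * w := by
            rw [conj_center (Subgroup.pow_mem _ hxw j), hxe, pow_succ, mul_assoc]
    have h2 := e q
    rw [hcq, one_mul, mul_inv_eq_iff_eq_mul] at h2
    exact h2
  · rw [hxe, hcw.eq, cent_mul_center hxw]

/-- The fixed points of a `q`-element on a subgroup it normalises. -/
theorem card_modEq_fixed {V : Subgroup G} {t : G} (ht : IsQ q t)
    (hVn : ∀ v ∈ V, t * v * t⁻¹ ∈ V) :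
    Nat.card V ≡ Nat.card ↥(V ⊓ centralizer ({t} : Set G)) [MOD q] := by
  have hn : zpowers t ≤ normalizer (V : Set G) := zpowers_le.2 (mem_normalizer_of_conj hVn)
  letI : MulAction (zpowers t) V :=
    { smul := fun x v => ⟨(x : G) * v * (x : G)⁻¹, (mem_normalizer_iff.1 (hn x.2) v).1 v.2⟩
      one_smul := fun v => Subtype.ext (show (1 : G) * v * (1 : G)⁻¹ = v by group)
      mul_smul := fun x y v => Subtype.ext (show ((x : G) * y) * v * ((x : G) * y)⁻¹ =
        (x : G) * ((y : G) * v * (y : G)⁻¹) * (x : G)⁻¹ by group) }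
  have h := (isPGroup_zpowers ht).card_modEq_card_fixedPoints V
  rwa [Nat.card_congr (α := MulAction.fixedPoints (zpowers t) V)
    (β := ↥(V ⊓ centralizer ({t} : Set G)))] at h
  refine
    { toFun := fun v => ⟨(v.1 : G), v.1.2, mem_cent.2 ?_⟩
      invFun := fun v => ⟨⟨v.1, v.2.1⟩, fun x => ?_⟩
      left_inv := fun v => rfl
      right_inv := fun v => rfl }
  · have := congrArg Subtype.val (v.2 ⟨t, mem_zpowers t⟩)
    exact (mul_inv_eq_iff_eq_mul.1 this).symm
  · refine Subtype.ext ?_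
    show (x : G) * v.1 * (x : G)⁻¹ = v.1
    obtain ⟨j, hj⟩ := x.2
    have hj' : t ^ j = (x : G) := hj
    rw [← hj', mul_inv_eq_iff_eq_mul]
    exact ((mem_cent.1 v.2.2).symm.zpow_left j).eq

/-- A `q`-subgroup is conjugate into a given Sylow subgroup. -/
theorem exists_conj_mem_sylow (P : Sylow q G) {R : Subgroup G} (hR : IsPGroup q R) :
    ∃ c : G, ∀ x ∈ R, c * x * c⁻¹ ∈ (P : Subgroup G) := by
  obtain ⟨R', hle, hR'⟩ := exists_full hR (le_top : R ≤ ⊤)
  obtain ⟨c, -, hc⟩ := hR'.conj (sylow_full P)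
  exact ⟨c, fun x hx => hc x (hle hx)⟩

/-- Two subgroups of index `q` of a `q`-group. -/
theorem card_eq_mul_inf {Q T T' : Subgroup G} (hQ : IsPGroup q Q) (hT : T ≤ Q) (hT' : T' ≤ Q)
    (hcard : Nat.card Q = q * Nat.card T') (hne : ¬ T ≤ T') :
    Nat.card T = q * Nat.card ↥(T ⊓ T') := by
  have h1 := relIndex_mul_relIndex ⊥ (T ⊓ T') T bot_le inf_le_left
  rw [relIndex_bot_left, relIndex_bot_left, inf_relIndex_left] at h1
  have h2 := relIndex_mul_relIndex ⊥ T' Q bot_le hT'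
  rw [relIndex_bot_left, relIndex_bot_left, hcard, mul_comm q] at h2
  have h3 : T'.relIndex Q = q := Nat.eq_of_mul_eq_mul_left Nat.card_pos h2
  have h4 : T'.relIndex T ≤ q := h3 ▸ relIndex_le_of_le_right hT (by rw [h3]; exact hq.out.ne_zero)
  obtain ⟨j, -, hj⟩ : ∃ j ≤ _, T'.relIndex T = q ^ j := (Nat.dvd_prime_pow hq.out).1
    ((relIndex_dvd_card T' T).trans (dvd_of_eq (IsPGroup.iff_card.1 (hQ.to_le hT)).choose_spec))
  have hj0 : j ≠ 0 := fun e => hne (relIndex_eq_one.1 (by rw [hj, e, pow_zero]))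
  have hj1 : j ≤ 1 := (Nat.pow_le_pow_iff_right hq.out.one_lt).1 (by rw [← hj, pow_one]; exact h4)
  rw [← h1, hj, show j = 1 by omega, pow_one, mul_comm]

/-- A subgroup of index `q` together with an element outside it generates. -/
theorem sup_eq_of_card_prime {A B : Subgroup G} (hAB : A ≤ B) (hcard : Nat.card B = q * Nat.card A)
    {x : G} (hx : x ∈ B) (hxA : x ∉ A) : zpowers x ⊔ A = B := by
  have hSB : zpowers x ⊔ A ≤ B := sup_le (zpowers_le.2 hx) hAB
  have h1 := relIndex_mul_relIndex ⊥ A (zpowers x ⊔ A) bot_le le_sup_right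
  rw [relIndex_bot_left, relIndex_bot_left] at h1
  refine eq_of_le_of_card_ge hSB ?_
  have h2 : A.relIndex (zpowers x ⊔ A) ∣ q := Nat.dvd_of_mul_dvd_mul_left (k := Nat.card A)
    Nat.card_pos (by rw [h1, mul_comm (Nat.card A), ← hcard]; exact card_dvd_of_le hSB)
  rcases (Nat.dvd_prime hq.out).1 h2 with e | e
  · exact absurd (relIndex_eq_one.1 e (mem_sup_left (mem_zpowers x))) hxA
  · rw [← h1, e, hcard, mul_comm]

end Q

/-- The norm identity for two commuting maps of period `q`. -/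
theorem pow_mem_of_lines {V : Type*} [CommGroup V] {q : ℕ} (hq : q.Prime) (α β : Monoid.End V)
    (hc : α * β = β * α) (ha : α ^ q = 1) (hb : β ^ q = 1) (W : Subgroup V)
    (hWa : ∀ v ∈ W, α v = v) (hfb : ∀ v, β v = v → v ∈ W)
    (hfl : ∀ (j : ℕ) (v : V), (α * β ^ j) v = v → v ∈ W) (v : V) : v ^ q ∈ W := by
  classical
  haveI := Fact.mk hq
  have hmul : ∀ (f g : Monoid.End V) (x : V), (f * g) x = f (g x) := fun _ _ _ => rfl
  have norm_fixed : ∀ f : Monoid.End V, f ^ q = 1 →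
      f (∏ i ∈ Finset.range q, (f ^ i) v) = ∏ i ∈ Finset.range q, (f ^ i) v := by
    intro f hf
    rw [map_prod]
    have h1 : ∀ i ∈ Finset.range q, f ((f ^ i) v) = (f ^ (i + 1)) v := by
      intro i _
      rw [pow_succ', hmul]
    rw [Finset.prod_congr rfl h1]
    have h2 := Finset.prod_range_succ' (fun i => (f ^ i) v) q
    rw [Finset.prod_range_succ, hf, pow_zero] at h2
    exact (mul_right_cancel h2).symm
  have hl : ∀ j, ∏ i ∈ Finset.range q, ((α * β ^ j) ^ i) v ∈ W := fun j => hfl j _ (norm_fixed _ (by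
    rw [(show Commute α β from hc).pow_right j |>.mul_pow, ha, one_mul, ← pow_mul, mul_comm, pow_mul,
      hb, one_pow]))
  have hnb : ∏ i ∈ Finset.range q, (β ^ i) v ∈ W := hfb _ (norm_fixed β hb)
  have hαW : ∀ (i : ℕ) (x : V), x ∈ W → (α ^ i) x = x := by
    intro i
    induction i with
    | zero => exact fun x _ => rfl
    | succ i ih => exact fun x hx => by rw [pow_succ', hmul, ih x hx, hWa x hx]
  have hcol : ∀ i ∈ Finset.range q, i ≠ 0 →
      ∏ j ∈ Finset.range q, ((α * β ^ j) ^ i) v ∈ W := by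
    intro i hi hi0
    have e : ∀ j ∈ Finset.range q, ((α * β ^ j) ^ i) v = (α ^ i) ((β ^ (j * i % q)) v) := by
      intro j _
      rw [(show Commute α β from hc).pow_right j |>.mul_pow, hmul, ← pow_mul,
        pow_eq_pow_mod (j * i) hb]
    rw [Finset.prod_congr rfl e, ← map_prod]
    have hperm : ∏ j ∈ Finset.range q, (β ^ (j * i % q)) v = ∏ j ∈ Finset.range q, (β ^ j) v := by
      have hinj : Set.InjOn (fun j => j * i % q) (Finset.range q : Set ℕ) := by
        intro a ha' b hb' hab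
        simp only [Finset.coe_range, Set.mem_Iio] at ha' hb'
        have h3 : a ≡ b [MOD q] := Nat.ModEq.cancel_right_of_coprime
          ((hq.coprime_iff_not_dvd.2 fun h => hi0 (Nat.eq_zero_of_dvd_of_lt h (Finset.mem_range.1 hi)))) hab
        exact h3.eq_of_lt_of_lt ha' hb'
      rw [← Finset.prod_image (f := fun j => (β ^ j) v) hinj]
      congr 1
      refine Finset.eq_of_subset_of_card_le (fun j hj => ?_) (by rw [Finset.card_image_of_injOn hinj])
      obtain ⟨a, -, rfl⟩ := Finset.mem_image.1 hj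
      exact Finset.mem_range.2 (Nat.mod_lt _ hq.pos)
    rw [hperm, hαW i _ hnb]
    exact hnb
  have h0 : ∏ j ∈ Finset.range q, ((α * β ^ j) ^ 0) v = v ^ q := by
    simp [Finset.prod_const]
  have htot := W.prod_mem (t := Finset.range q) fun j _ => hl j
  rw [Finset.prod_comm, ← Finset.mul_prod_erase _ _ (Finset.mem_range.2 hq.pos), h0] at htot
  exact (W.mul_mem_cancel_right (W.prod_mem fun i hi =>
    hcol i (Finset.mem_of_mem_erase hi) (Finset.ne_of_mem_erase hi))).1 htot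

/-- A group of exponent `q` modulo `T` acting without fixed points outside the center on an
abelian subgroup has order `q` modulo `T`. -/
theorem card_eq_prime_mul {q : ℕ} [hq : Fact q.Prime] {Q T V : Subgroup G} (hQ : IsPGroup q Q)
    (hTQ : T ≤ Q) (hne : T ≠ Q) (hTn : ∀ x ∈ Q, ∀ t ∈ T, x * t * x⁻¹ ∈ T)
    (hexp : ∀ x ∈ Q, x ^ q ∈ T) (hVn : ∀ x ∈ Q, ∀ v ∈ V, x * v * x⁻¹ ∈ V)
    (hVc : ∀ a ∈ V, ∀ b ∈ V, Commute a b) (hTV : ∀ t ∈ T, ∀ v ∈ V, Commute t v)
    (hfix : ∀ x ∈ Q, x ∉ T → ∀ v ∈ V, Commute x v → v ∈ center G)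
    (hVq : ∀ v ∈ V, v ^ q ∈ center G → v ∈ center G) (hV : ∃ v ∈ V, v ∉ center G) :
    Nat.card Q = q * Nat.card T := by
  set T' := T.subgroupOf Q
  haveI hT'n : T'.Normal := ⟨fun t ht x => hTn x.1 x.2 t.1 ht⟩
  have hT'c : Nat.card T' = Nat.card T := Nat.card_congr (subgroupOfEquivOfLe hTQ).toEquiv
  have hQb : IsPGroup q (Q ⧸ T') := hQ.to_quotient T'
  haveI hnt : Nontrivial (Q ⧸ T') := by
    refine QuotientGroup.nontrivial_iff.2 fun h => hne (le_antisymm hTQ fun x hx => ?_)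
    have h1 : (⟨x, hx⟩ : Q) ∈ T' := h ▸ mem_top _
    exact h1
  obtain ⟨k, hk⟩ := IsPGroup.iff_card.1 hQb
  suffices hk1 : k = 1 by
    rw [← T'.card_mul_index, index_eq_card, hk, hk1, pow_one, hT'c, mul_comm]
  by_contra hk1
  have hk0 : k ≠ 0 := fun h => by
    have := Finite.one_lt_card (α := Q ⧸ T'); rw [hk, h, pow_zero] at this; exact lt_irrefl 1 this
  obtain ⟨⟨xb, hxc⟩, hx1⟩ := @exists_ne _ (hQb.center_nontrivial) (1 : center (Q ⧸ T'))
  have hx1' : xb ≠ 1 := fun h => hx1 (Subtype.ext h)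
  obtain ⟨x, rfl⟩ := QuotientGroup.mk'_surjective T' xb
  set π := QuotientGroup.mk' T'
  have hpow : ∀ z : Q ⧸ T', z ^ q = 1 := by
    intro z
    obtain ⟨a, rfl⟩ := QuotientGroup.mk'_surjective T' z
    rw [← map_pow]
    exact (QuotientGroup.eq_one_iff _).2 (hexp a.1 a.2)
  have hox : orderOf (π x) = q := orderOf_eq_prime (hpow _) hx1'
  obtain ⟨yb, hy⟩ : ∃ z : Q ⧸ T', z ∉ zpowers (π x) := by
    by_contra hcon
    push Not at hcon
    have h : zpowers (π x) = ⊤ := eq_top_iff.2 fun z _ => hcon z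
    have h2 := congrArg (fun H : Subgroup (Q ⧸ T') => Nat.card H) h
    simp only [Nat.card_zpowers, card_top, hox, hk] at h2
    exact hk1 (Nat.pow_right_injective hq.out.two_le (h2.symm.trans (pow_one q).symm))
  obtain ⟨y, rfl⟩ := QuotientGroup.mk'_surjective T' yb
  have hyT : y.1 ∉ T := fun h => hy (by
    rw [show π y = 1 from (QuotientGroup.eq_one_iff y).2 h]; exact one_mem _)
  have hxyT : ∀ j : ℕ, (x * y ^ j).1 ∉ T := by
    intro j h
    have h1 : π x * π y ^ j = 1 := by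
      rw [← map_pow, ← map_mul]; exact (QuotientGroup.eq_one_iff _).2 h
    by_cases hj : q ∣ j
    · obtain ⟨i, rfl⟩ := hj
      rw [pow_mul, hpow, one_pow, mul_one] at h1
      exact hx1' h1
    · obtain ⟨i, hi⟩ := exists_pow_eq_self_of_coprime (x := π y) (n := j) (Nat.Coprime.coprime_dvd_right
        (orderOf_dvd_of_pow_eq_one (hpow (π y))) (hq.out.coprime_iff_not_dvd.2 hj).symm)
      refine hy ?_
      rw [← hi, eq_inv_of_mul_eq_one_right h1]
      exact pow_mem (inv_mem (mem_zpowers _)) _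
  haveI : IsMulCommutative V := ⟨⟨fun a b => Subtype.ext (hVc a.1 a.2 b.1 b.2)⟩⟩
  letI : CommGroup V := { V.toGroup with mul_comm := fun a b => Subtype.ext (hVc a.1 a.2 b.1 b.2) }
  let act : Q → Monoid.End V := fun a =>
    { toFun := fun v => ⟨(a : G) * v * (a : G)⁻¹, hVn a.1 a.2 v.1 v.2⟩
      map_one' := Subtype.ext (by simp)
      map_mul' := fun u v => Subtype.ext (show (a : G) * ((u : G) * v) * (a : G)⁻¹ =
        (a : G) * u * (a : G)⁻¹ * ((a : G) * v * (a : G)⁻¹) by group) }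
  have hact : ∀ (a : Q) (v : V), (act a v : G) = (a : G) * v * (a : G)⁻¹ := fun _ _ => rfl
  have hmul : ∀ a b : Q, act (a * b) = act a * act b := fun a b => by
    refine MonoidHom.ext fun v => Subtype.ext ?_
    show ((a : G) * b) * v * ((a : G) * b)⁻¹ = (a : G) * ((b : G) * v * (b : G)⁻¹) * (a : G)⁻¹
    group
  have htriv : ∀ a : Q, a.1 ∈ T → act a = 1 := fun a ha => by
    refine MonoidHom.ext fun v => Subtype.ext ?_
    show (a : G) * v * (a : G)⁻¹ = v
    rw [(hTV a.1 ha v.1 v.2).eq, mul_inv_cancel_right]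
  let actH : Q →* Monoid.End V := ⟨⟨act, htriv 1 T.one_mem⟩, hmul⟩
  have hxy : act x * act y = act y * act x := by
    have h1 : π ((y * x)⁻¹ * (x * y)) = 1 := by
      rw [map_mul, map_inv, map_mul, map_mul, mem_center_iff.1 hxc (π y), inv_mul_cancel]
    have h3 : (((y * x)⁻¹ * (x * y) : Q) : G) ∈ T :=
      (QuotientGroup.eq_one_iff (N := T') _).1 h1
    have h2 : act ((y * x) * ((y * x)⁻¹ * (x * y))) = act (y * x) := by
      rw [hmul, htriv _ h3, mul_one]
    rw [← mul_assoc, mul_inv_cancel, one_mul, hmul, hmul] at h2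
    exact h2
  have hpw : ∀ a : Q, act a ^ q = 1 := fun a => by
    rw [← htriv (a ^ q) (hexp a.1 a.2)]
    exact (map_pow actH a q).symm
  let W : Subgroup V := (center G).subgroupOf V
  have hfixW : ∀ a : Q, a.1 ∉ T → ∀ v : V, act a v = v → v ∈ W := fun a ha v hv =>
    hfix a.1 a.2 ha v.1 v.2 (mul_inv_eq_iff_eq_mul.1 (congrArg Subtype.val hv))
  obtain ⟨v, hv, hvZ⟩ := hV
  refine hvZ (hVq v hv ?_)
  have key := pow_mem_of_lines hq.out (act x) (act y) hxy (hpw x) (hpw y) W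
    (fun u hu => Subtype.ext (conj_center (hu : (u : G) ∈ center G) _)) (hfixW y hyT)
    (fun j u hu => hfixW (x * y ^ j) (hxyT j) u (by
      rw [hmul]
      rw [show act (y ^ j) = act y ^ j from map_pow actH y j]
      exact hu)) ⟨v, hv⟩
  exact key

end CfsgLib.ThreeCop
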