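import Cfsg.Agent.Lib.PGroup.ThreeSizesCoprime.Basic
import Cfsg.Agent.Lib.PGroup.MaximalPPartClass

/-!
Class sizes `1, q ^ a, q ^ a n` with a `q`-element of class size `q ^ a`.
-/

set_option autoImplicit false
set_option linter.style.haveILetI false
set_option linter.unusedSectionVars false

namespace CfsgLib.ThreeCop

open Subgroup
open CfsgLib.ClassGraph (cidx)
open scoped commutatorElement

variable {G : Type*} [Group G] [Finite G]

/-- A normal subgroup whose order is prime to the index of `A` lies in `A`. -/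
theorem le_of_coprime_index {K A : Subgroup G} [K.Normal]
    (hco : (Nat.card K).Coprime A.index) : K ≤ A := by
  refine relIndex_eq_one.1 (Nat.eq_one_of_dvd_coprimes hco (relIndex_dvd_card A K) ?_)
  obtain ⟨d, hd⟩ := relIndex_dvd_index_of_normal K A
  have e1 := relIndex_mul_relIndex ⊥ (A ⊓ K) A bot_le inf_le_left
  have e2 := relIndex_mul_relIndex ⊥ (A ⊓ K) K bot_le inf_le_right
  rw [relIndex_bot_left, relIndex_bot_left, inf_relIndex_left] at e1
  rw [relIndex_bot_left, relIndex_bot_left, inf_relIndex_right] at e2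
  refine ⟨d, Nat.eq_of_mul_eq_mul_left (show 0 < Nat.card ↥(A ⊓ K) * K.relIndex A by
    rw [e1]; exact Nat.card_pos) ?_⟩
  calc Nat.card ↥(A ⊓ K) * K.relIndex A * A.index = Nat.card G := by rw [e1, A.card_mul_index]
    _ = Nat.card K * K.index := (K.card_mul_index).symm
    _ = _ := by rw [hd, ← e2]; ring

variable {q : ℕ} [hq : Fact q.Prime]

/-- The hypotheses of the first case: a normal `q`-complement. -/
structure Compl (G : Type*) [Group G] (q : ℕ) (K : Subgroup G) : Prop where
  normal : K.Normal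
  coprime : ¬ q ∣ Nat.card K
  index : ∃ j : ℕ, K.index = q ^ j

theorem Compl.mem {K : Subgroup G} (hK : Compl G q K) {b : G} (hb : ¬ q ∣ orderOf b) : b ∈ K := by
  haveI := hK.normal
  obtain ⟨j, hj⟩ := hK.index
  obtain ⟨e, he⟩ := exists_pow_eq_self_of_coprime (x := b) (n := K.index)
    (by rw [hj]; exact Nat.Coprime.pow_left _ (hq.out.coprime_iff_not_dvd.2 hb))
  exact he ▸ pow_mem (pow_index_mem K b) e

theorem Compl.not_dvd {K : Subgroup G} (hK : Compl G q K) {b : G} (hb : b ∈ K) : ¬ q ∣ orderOf b :=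
  fun h => hK.coprime (h.trans (orderOf_dvd_natCard _ hb))

theorem Compl.le_cent {K : Subgroup G} (hK : Compl G q K) {g : G} {j : ℕ} (hg : cidx g ∣ q ^ j) :
    K ≤ centralizer ({g} : Set G) :=
  haveI := hK.normal
  le_of_coprime_index (Nat.Coprime.coprime_dvd_right hg
    (Nat.Coprime.pow_right j (hq.out.coprime_iff_not_dvd.2 hK.coprime).symm))

variable {m n : ℕ} (h : Hyp G m n)

include h in
theorem Hyp.dvd_n_card {K : Subgroup G} (hK : Compl G q K) {a : ℕ} (ha : m = q ^ a) {g : G}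
    (hg : cidx g = m * n) :
    Nat.card ↥(centralizer ({g} : Set G) ⊓ K) * n = Nat.card K := by
  haveI := hK.normal
  set A := centralizer ({g} : Set G)
  obtain ⟨j, hj⟩ := hK.index
  obtain ⟨i, -, hi⟩ : ∃ i ≤ j, K.relIndex A = q ^ i :=
    (Nat.dvd_prime_pow hq.out).1 (hj ▸ relIndex_dvd_index_of_normal K A)
  have e1 := relIndex_mul_relIndex ⊥ (A ⊓ K) A bot_le inf_le_left
  rw [relIndex_bot_left, relIndex_bot_left, inf_relIndex_left, hi] at e1
  have e2 : Nat.card ↥(A ⊓ K) * q ^ i * (q ^ a * n) = Nat.card K * q ^ j := by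
    rw [← hj, K.card_mul_index, e1, ← ha, ← hg, A.card_mul_index]
  have hzq : (Nat.card ↥(A ⊓ K) * n).Coprime q := by
    refine (Nat.Coprime.mul_left ?_ ?_)
    · exact ((hq.out.coprime_iff_not_dvd.2 hK.coprime).symm).coprime_dvd_left
        (card_dvd_of_le inf_le_right)
    · have ha0 : a ≠ 0 := fun e => by have := h.hm; rw [ha, e, pow_zero] at this; omega
      exact ((hq.out.coprime_iff_not_dvd.2 (h.not_dvd_n (ha ▸ dvd_pow_self q ha0)))).symm
  have e3 : Nat.card ↥(A ⊓ K) * n * q ^ (i + a) = Nat.card K * q ^ j := by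
    rw [← e2, pow_add]; ring
  refine Nat.dvd_antisymm ?_ ?_
  · exact (Nat.Coprime.pow_right j hzq).dvd_of_dvd_mul_right (e3 ▸ dvd_mul_right _ _)
  · exact (Nat.Coprime.pow_right (i + a) (hq.out.coprime_iff_not_dvd.2 hK.coprime).symm).dvd_of_dvd_mul_right
      (e3.symm ▸ dvd_mul_right _ _)

include h in
/-- The centralizer of a `q`-element of class size `q ^ a` is the product of the complement with
its centralizer. -/
theorem Hyp.cent_type1 {K : Subgroup G} (hK : Compl G q K) {a : ℕ} (ha : m = q ^ a) {u : G}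
    (hu : IsQ q u) (hum : cidx u = m) :
    centralizer ({u} : Set G) = centralizer (K : Set G) ⊔ K := by
  haveI := hK.normal
  have hqm : q ∣ m := by
    rw [ha]; refine dvd_pow_self q fun e => ?_
    have := h.hm; rw [ha, e, pow_zero] at this; omega
  have huZ := h.not_center (Or.inl hum)
  obtain ⟨R, hR, hmem, hcent, -⟩ := h.exists_R hqm hu huZ
  set C := centralizer ({u} : Set G) with hC
  have hKC : K ≤ C := hK.le_cent (j := a) (by rw [hum, ha])
  set W := centralizer (K : Set G) with hW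
  have hRW : R ≤ W := fun r hr => mem_centralizer_iff.2 fun b hb =>
    ((hcent b (hKC hb) (hK.not_dvd hb) r hr).symm).eq
  have hCle : C ≤ W ⊔ K := by
    intro c hc
    obtain ⟨x, b, -, rfl, hx, hb, hxz, -⟩ := parts q c
    exact mul_mem (mem_sup_left (hRW (hmem x (zpowers_le.2 hc hxz) hx))) (mem_sup_right (hK.mem hb))
  obtain ⟨x₀, hx₀, hx₀Z⟩ : ∃ x ∈ K, x ∉ center G := by
    by_contra hcon
    push Not at hcon
    obtain ⟨g, hg⟩ := h.exmn
    obtain ⟨r, hr, hrn⟩ := Nat.exists_prime_and_dvd (show n ≠ 1 by have := h.hn; omega)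
    haveI := Fact.mk hr
    have hrq : r ≠ q := fun e => h.not_dvd_n hqm (e ▸ hrn)
    obtain ⟨S⟩ : Nonempty (Sylow r G) := inferInstance
    refine S.not_dvd_index ((hrn.trans (dvd_mul_left n m)).trans (hg ▸ index_dvd_of_le fun x hx => ?_))
    exact center_le_centralizer _ (hcon x (hK.mem
      ((isQ_of_mem S.isPGroup' hx).not_dvd_of_ne hq.out fun e => hrq e.symm)))
  have hvq : vq q W ≤ vq q C := by
    rw [h.vq_eq hqm huZ hx₀Z]
    have hle : W ≤ centralizer ({x₀} : Set G) := fun w hw =>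
      mem_cent.2 (mem_centralizer_iff.1 hw x₀ hx₀).symm
    exact (Nat.factorization_le_iff_dvd Nat.card_pos.ne' Nat.card_pos.ne').2 (card_dvd_of_le hle) q
  have hRcard : Nat.card R = q ^ vq q W := le_antisymm (card_le_of_pGroup hR.pg hRW)
    (by rw [hR.card]; exact Nat.pow_le_pow_right hq.out.pos hvq)
  refine le_antisymm hCle (sup_le ?_ hKC)
  have hle : R ⊔ K ⊓ W ≤ C := sup_le hR.le (inf_le_left.trans hKC)
  refine le_trans ?_ hle
  refine relIndex_eq_one.1 ?_
  obtain ⟨j, hj⟩ := hK.index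
  have h1 : (R ⊔ K ⊓ W).relIndex W ∣ q ^ j := by
    refine (relIndex_dvd_of_le_left W le_sup_right).trans ?_
    rw [inf_relIndex_right, ← hj]
    exact relIndex_dvd_index_of_normal K W
  have h2 : (R ⊔ K ⊓ W).relIndex W ∣ R.relIndex W := relIndex_dvd_of_le_left W le_sup_left
  have h3 : ¬ q ∣ R.relIndex W := fun hd => by
    have e := relIndex_mul_relIndex ⊥ R W bot_le hRW
    rw [relIndex_bot_left, relIndex_bot_left, hRcard] at e
    have : q ^ (vq q W + 1) ∣ Nat.card W := by
      rw [← e, pow_succ]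
      exact mul_dvd_mul_left _ hd
    have := (hq.out.pow_dvd_iff_le_factorization Nat.card_pos.ne').1 this
    rw [vq] at this
    omega
  exact Nat.eq_one_of_dvd_coprimes (Nat.Coprime.pow_left j (hq.out.coprime_iff_not_dvd.2 h3)) h1 h2

include h in
theorem Hyp.case_one {a : ℕ} (ha : m = q ^ a) {u : G} (hu : IsQ q u) (hum : cidx u = m) :
    m = q ∧ q ∣ n - 1 ∧ (∃ M : Subgroup G, M.Normal ∧
      (M : Set G) = {x : G | cidx x = 1 ∨ cidx x = m} ∧ M.index = m ∧ IsMulCommutative M) ∧
    (∃ K : Subgroup G, K.Normal ∧ (Nat.card K).Coprime m ∧ ∃ j : ℕ, K.index = m ^ j) ∧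
    ∀ P : Sylow q G, Nat.card (commutator (P : Subgroup G)) = q := by
  have ha0 : a ≠ 0 := fun e => by have := h.hm; rw [ha, e, pow_zero] at this; omega
  have hqm : q ∣ m := ha ▸ dvd_pow_self q ha0
  have hn := h.hn
  obtain ⟨k, hk⟩ := hu
  obtain ⟨k', -, hk'⟩ := (Nat.dvd_prime_pow hq.out).1 (orderOf_dvd_of_pow_eq_one hk)
  obtain ⟨P₀, K, hKn, hKP⟩ := MaxPPart.hasNormalPComplement q a (fun y hd => by
    have h1 : q ^ (a + 1) ∣ q ^ a * n := ha ▸ hd.trans (h.idx_dvd y)
    rw [pow_succ] at h1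
    exact h.not_dvd_n hqm (Nat.dvd_of_mul_dvd_mul_left (pow_pos hq.out.pos a) h1)) hk' (hum.trans ha)
  obtain ⟨J, hJ⟩ := IsPGroup.iff_card.1 P₀.isPGroup'
  have hidx : K.index = q ^ J := hKP.symm.index_eq_card.trans hJ
  have hK : Compl G q K := ⟨hKn, by rw [← hKP.index_eq_card]; exact P₀.not_dvd_index, J, hidx⟩
  have hu : IsQ q u := ⟨k, hk⟩
  have huZ := h.not_center (Or.inl hum)
  obtain ⟨R, hR, hmem, hcent, -⟩ := h.exists_R hqm hu huZ
  set C := centralizer ({u} : Set G) with hC
  have hCeq : C = centralizer (K : Set G) ⊔ K := h.cent_type1 hK ha hu hum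
  haveI := hKn
  haveI hCn : C.Normal := by rw [hCeq]; infer_instance
  have hKC : K ≤ C := hCeq ▸ le_sup_right
  have hRn : ∀ g : G, ∀ r ∈ R, g * r * g⁻¹ ∈ R := fun g r hr =>
    hmem _ (hCn.conj_mem r (hR.le hr) g) ((isQ_of_mem hR.pg hr).conj g)
  have hRcent : ∀ r ∈ R, r ∉ center G → centralizer ({r} : Set G) = C := by
    intro r hr hrZ
    have hK' : K ≤ centralizer ({r} : Set G) := fun b hb =>
      mem_cent.2 (hcent b (hKC hb) (hK.not_dvd hb) r hr).symm
    have hd : cidx r ∣ q ^ J := hidx ▸ index_dvd_of_le hK'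
    have hrm : cidx r = m := (h.idx hrZ).resolve_right fun e => by
      obtain ⟨i, -, hi⟩ := (Nat.dvd_prime_pow hq.out).1 ((dvd_mul_left n m).trans (e ▸ hd))
      cases i with
      | zero => rw [pow_zero] at hi; omega
      | succ i => exact h.not_dvd_n hqm (hi ▸ dvd_pow_self q i.succ_ne_zero)
    rw [hCeq, h.cent_type1 hK ha (isQ_of_mem hR.pg hr) hrm]
  have hRC : ∀ r ∈ R, ∀ c ∈ C, Commute c r := fun r hr c hc => by
    by_cases hrZ : r ∈ center G
    · exact commute_center hrZ c
    · exact mem_cent.1 ((hRcent r hr hrZ).symm ▸ hc)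
  have houtR : ∀ t : G, IsQ q t → t ∉ R → cidx t = m * n := by
    intro t ht htR
    have htZ : t ∉ center G := fun hz => htR (central_mem_full hR hz ht)
    refine (h.idx htZ).resolve_left fun e => htR (hmem t ?_ ht)
    rw [hCeq, ← h.cent_type1 hK ha ht e]
    exact self_mem_cent t
  have hfix : ∀ t : G, IsQ q t → t ∉ R → ∀ x ∈ K, Commute t x → x ∈ center G := by
    intro t ht htR x hx htx
    by_contra hxZ
    have hfull : Full q R (centralizer ({x} : Set G)) :=
      ⟨fun r hr => mem_cent.2 (hcent x (hKC hx) (hK.not_dvd hx) r hr), hR.pg,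
        by rw [hR.card, h.vq_eq hqm huZ hxZ]⟩
    exact htR (hfull.mem_of_isQ (mem_cent.2 htx) ht (mem_normalizer_of_conj (hRn t)))
  obtain ⟨t₀, ht₀q, ht₀⟩ : ∃ t : G, IsQ q t ∧ t ∉ R := by
    by_contra hcon
    push Not at hcon
    exact h.not_le_cent hqm huZ P₀ fun x hx => hR.le (hcon x (isQ_of_mem P₀.isPGroup' hx))
  have hz : Nat.card ↥(K ⊓ center G) * n = Nat.card K := by
    rw [show K ⊓ center G = centralizer ({t₀} : Set G) ⊓ K from le_antisymm
      (fun x hx => ⟨center_le_centralizer _ hx.2, hx.1⟩)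
      (fun x hx => ⟨hx.2, hfix t₀ ht₀q ht₀ x hx.2 (mem_cent.1 hx.1).symm⟩)]
    exact h.dvd_n_card hK ha (houtR t₀ ht₀q ht₀)
  have hKab : ∀ x ∈ K, ∀ y ∈ K, Commute x y := by
    intro x hx y hy
    by_cases hxZ : x ∈ center G
    · exact (commute_center hxZ y).symm
    rcases h.idx hxZ with e | e
    · exact (mem_cent.1 (hK.le_cent (j := a) (by rw [e, ha]) hy)).symm
    · exfalso
      have h1 : K ⊓ center G = centralizer ({x} : Set G) ⊓ K :=
        eq_of_le_of_card_ge (fun v hv => ⟨center_le_centralizer _ hv.2, hv.1⟩)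
          (le_of_eq (Nat.eq_of_mul_eq_mul_right (show 0 < n by omega)
            ((h.dvd_n_card hK ha e).trans hz.symm)))
      exact hxZ (h1.ge ⟨self_mem_cent x, hx⟩).2
  have hCab : ∀ x ∈ C, ∀ y ∈ C, Commute x y := by
    intro x hx y hy
    obtain ⟨r, b, -, rfl, hr, hb, hrz, -⟩ := parts q y
    have hbK := hK.mem hb
    obtain ⟨r', b', -, rfl, hr', hb', hrz', -⟩ := parts q x
    have hb'K := hK.mem hb'
    exact ((hRC r (hmem r (zpowers_le.2 hy hrz) hr) _ hx).mul_right
      (((hRC r' (hmem r' (zpowers_le.2 hx hrz') hr') b (hKC hbK)).symm).mul_left (hKab b' hb'K b hbK)))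
  have hRP : ∀ P : Sylow q G, R ≤ (P : Subgroup G) := fun P => by
    have hQn : (P : Subgroup G) ≤ normalizer (R : Set G) := fun x _ => mem_normalizer_of_conj (hRn x)
    have e : (P : Subgroup G) ⊔ R = P :=
      P.is_maximal' (IsPGroup.to_sup_of_normal_right' P.isPGroup' hR.pg hQn) le_sup_left
    exact e ▸ le_sup_right
  have hRZ : ¬ R ≤ center G := fun hle => huZ (hle (hmem u (self_mem_cent u) hu))
  have hspecial : ∀ P : Sylow q G, ∃ w ∈ R, w ∉ center G ∧ w ^ q ∈ center G ∧
      ∀ x ∈ (P : Subgroup G), x * w * x⁻¹ * w⁻¹ ∈ center G := fun P =>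
    exists_special P.isPGroup' (hRP P) (fun x _ => hRn x) hRZ
  have hcardP : ∀ P : Sylow q G, Nat.card (P : Subgroup G) = q * Nat.card R := by
    intro P
    obtain ⟨w, hwR, hwZ, hwq, hwc⟩ := hspecial P
    refine card_eq_prime_mul P.isPGroup' (hRP P) (fun e => ?_) (fun x _ => hRn x) (fun x hx => ?_)
      (fun x _ v hv => hKn.conj_mem v hv x) hKab (fun r hr v hv => (hRC r hr v (hKC hv)).symm)
      (fun x hx hxR => hfix x (isQ_of_mem P.isPGroup' hx) hxR) (fun v hv hvq => ?_) ?_
    · exact h.not_le_cent hqm huZ P (e ▸ hR.le)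
    · exact hmem _ (hRcent w hwR hwZ ▸ (special_pow hwq (hwc x hx)).2.1)
        (isQ_of_mem P.isPGroup' (Subgroup.pow_mem _ hx q))
    · obtain ⟨e, he⟩ := exists_pow_eq_self_of_coprime (x := v) (n := q)
        (hq.out.coprime_iff_not_dvd.2 (hK.not_dvd hv))
      exact he ▸ Subgroup.pow_mem _ hvq e
    · by_contra hcon
      push Not at hcon
      rw [inf_eq_left.2 hcon] at hz
      exact absurd ((mul_eq_left₀ Nat.card_pos.ne').1 hz) (by omega)
  have ha1 : a = 1 := by
    have h1 := hcardP P₀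
    rw [hR.card, (sylow_full P₀).card, ← pow_succ'] at h1
    have h2 := Nat.pow_right_injective hq.out.two_le h1
    have h3 : vq q C + m.factorization q = vq q (⊤ : Subgroup G) := h.vq_cent hqm huZ
    rw [ha, hq.out.factorization_pow, Finsupp.single_eq_same] at h3
    omega
  have hmq : m = q := by rw [ha, ha1, pow_one]
  refine ⟨hmq, ?_, ⟨C, hCn, ?_, hum, ⟨⟨fun x y => Subtype.ext (hCab x.1 x.2 y.1 y.2)⟩⟩⟩,
    ⟨K, hKn, ?_, J, by rw [hidx, hmq]⟩, fun P => ?_⟩
  · have hmod := card_modEq_fixed ht₀q (V := K) (fun v hv => hKn.conj_mem v hv t₀)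
    rw [show K ⊓ centralizer ({t₀} : Set G) = K ⊓ center G from le_antisymm
      (fun x hx => ⟨hx.1, hfix t₀ ht₀q ht₀ x hx.1 (mem_cent.1 hx.2).symm⟩)
      (inf_le_inf_left _ (center_le_centralizer _)), ← hz, mul_comm] at hmod
    have h1 : n ≡ 1 [MOD q] := Nat.ModEq.cancel_right_of_coprime (c := Nat.card ↥(K ⊓ center G))
      ((hq.out.coprime_iff_not_dvd.2 fun hd => hK.coprime (hd.trans (card_dvd_of_le inf_le_left))))
      (by rwa [one_mul])
    exact (Nat.modEq_iff_dvd' hn.le).1 h1.symm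
  · ext x
    constructor
    · intro hx
      have hd : cidx x ∣ m := hum ▸ index_dvd_of_le (fun c hc => mem_cent.2 (hCab c hc x hx))
      rw [hmq] at hd ⊢
      exact (Nat.dvd_prime hq.out).1 hd
    · intro hx
      obtain ⟨r, b, hrb, hxe, hr, hb, -, -⟩ := parts q x
      subst hxe
      refine mul_mem ?_ (hKC (hK.mem hb))
      by_contra hrC
      have hrR : r ∉ R := fun h' => hrC (hR.le h')
      have e := houtR r hr hrR
      have hd : cidx r ∣ cidx (r * b) :=
        index_dvd_of_le ((ClassGraph.centralizer_mul_le hrb (hr.coprime hb)).trans inf_le_left)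
      have hxm : cidx (r * b) ∣ m := by
        rcases hx with hx' | hx' <;> rw [hx']
        exact one_dvd _
      have := Nat.le_of_dvd (by have := h.hm; omega) ((e ▸ hd).trans hxm)
      nlinarith [h.hm]
  · rw [hmq]
    exact ((hq.out.coprime_iff_not_dvd.2 hK.coprime)).symm
  · obtain ⟨c, hc⟩ := exists_conj_mem_sylow P
      (exists_full (isPGroup_zpowers ht₀q) (zpowers_le.2 (self_mem_cent t₀))).choose_spec.2.pg
    obtain ⟨ht₀R', hR'⟩ := (exists_full (isPGroup_zpowers ht₀q) (zpowers_le.2 (self_mem_cent t₀))).choose_spec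
    set R' := (exists_full (isPGroup_zpowers ht₀q) (zpowers_le.2 (self_mem_cent t₀))).choose
    set t := c * t₀ * c⁻¹ with ht
    have htP : t ∈ (P : Subgroup G) := hc t₀ (ht₀R' (mem_zpowers t₀))
    have htR : t ∉ R := fun h' => ht₀ (by simpa [ht, mul_assoc] using hRn c⁻¹ t h')
    obtain ⟨w, hwR, hwZ, hwq, hwc⟩ := hspecial P
    have hinf : R ⊓ ((P : Subgroup G) ⊓ centralizer ({t} : Set G)) = R ⊓ center G := by
      refine le_antisymm (fun r hr => ⟨hr.1, ?_⟩)
        (fun r hr => ⟨hr.1, hRP P hr.1, center_le_centralizer _ hr.2⟩)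
      by_contra hrZ
      exact htR (hmem t (hRcent r hr.1 hrZ ▸ mem_cent.2 (mem_cent.1 hr.2.2).symm)
        (isQ_of_mem P.isPGroup' htP))
    have hcardT : Nat.card ↥((P : Subgroup G) ⊓ centralizer ({t} : Set G)) = Nat.card R := by
      have htZ : t ∉ center G := fun hz => htR (central_mem_full hR hz (ht₀q.conj c))
      refine le_antisymm ?_ ?_
      · rw [hR.card, h.vq_eq hqm huZ htZ]
        exact card_le_of_pGroup (P.isPGroup'.to_le inf_le_left) inf_le_right
      · have e : Nat.card R = Nat.card ↥(R'.map (MulAut.conj c).toMonoidHom) := by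
          rw [card_map_of_injective (MulAut.conj c).injective, hR'.card, hR.card,
            h.vq_eq hqm huZ (fun hz => ht₀ (central_mem_full hR hz ht₀q))]
        rw [e]
        exact card_le_of_le (map_le_iff_le_comap.2 fun x hx =>
          ⟨hc x hx, (mem_cent_conj c).2 (hR'.le hx)⟩)
    have hRc : Nat.card R = q * Nat.card ↥(R ⊓ center G) := by
      rw [← hinf]
      refine card_eq_mul_inf P.isPGroup' (hRP P) inf_le_left (by rw [hcardT]; exact hcardP P) ?_
      intro hle
      exact hwZ ((hinf.le ⟨hwR, hle hwR⟩).2)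
    obtain ⟨d, hd⟩ : ∃ d, d = t * w * t⁻¹ * w⁻¹ := ⟨_, rfl⟩
    have hdZ : d ∈ center G := hd ▸ hwc t htP
    have hdq : d ^ q = 1 := hd ▸ (special_pow hwq (hwc t htP)).1
    have hd1 : d ≠ 1 := fun e => by
      rw [hd, mul_inv_eq_one, mul_inv_eq_iff_eq_mul] at e
      exact htR (hmem t (hRcent w hwR hwZ ▸ mem_cent.2 e) (isQ_of_mem P.isPGroup' htP))
    have hw_sup : zpowers w ⊔ R ⊓ center G = R :=
      sup_eq_of_card_prime inf_le_left hRc hwR fun h' => hwZ h'.2
    have hP_sup : zpowers t ⊔ R = (P : Subgroup G) := sup_eq_of_card_prime (hRP P) (hcardP P) htP htR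
    set L := zpowers d with hL
    haveI : L.Normal := ⟨fun x hx g => by
      rw [mem_center_iff.1 (zpowers_le.2 hdZ hx) g, mul_inv_cancel_right]; exact hx⟩
    set π := QuotientGroup.mk' L with hπ
    have hwt : Commute (π t) (π w) := by
      have h1 : π (t * w * t⁻¹ * w⁻¹) = 1 := (QuotientGroup.eq_one_iff _).2 (hd ▸ mem_zpowers d)
      rw [map_mul, map_mul, map_mul, map_inv, map_inv, mul_inv_eq_one, mul_inv_eq_iff_eq_mul] at h1
      exact h1
    have hgen : ∀ y : G, Commute (π t) (π y) → Commute (π w) (π y) →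
        ∀ x ∈ (P : Subgroup G), Commute (π x) (π y) := by
      intro y h1 h2
      have hle : (P : Subgroup G) ≤ (centralizer ({π y} : Set (G ⧸ L))).comap π := by
        rw [← hP_sup, ← hw_sup]
        exact sup_le (zpowers_le.2 (mem_cent.2 h1)) (sup_le (zpowers_le.2 (mem_cent.2 h2))
          fun z hz => mem_cent.2 ((commute_center hz.2 y).symm.map π))
      exact fun x hx => mem_cent.1 (hle hx)
    have habel : ∀ x ∈ (P : Subgroup G), ∀ y ∈ (P : Subgroup G), Commute (π x) (π y) :=
      fun x hx y hy => hgen y (hgen t (Commute.refl _) hwt.symm y hy).symm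
        (hgen w hwt (Commute.refl _) y hy).symm x hx
    have hmap : (commutator (P : Subgroup G)).map (P : Subgroup G).subtype = L := by
      refine le_antisymm ?_ ?_
      · rw [map_le_iff_le_comap, _root_.commutator_def, commutator_le]
        intro x _ y _
        show ((⁅x, y⁆ : (P : Subgroup G)) : G) ∈ L
        refine (QuotientGroup.eq_one_iff _).1 ?_
        show π ((x : G) * y * (x : G)⁻¹ * (y : G)⁻¹) = 1
        rw [map_mul, map_mul, map_mul, map_inv, map_inv, (habel x x.2 y y.2).eq,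
          mul_inv_cancel_right, mul_inv_cancel]
      · rw [zpowers_le]
        exact ⟨⁅(⟨t, htP⟩ : (P : Subgroup G)), ⟨w, hRP P hwR⟩⁆,
          commutator_mem_commutator (mem_top _) (mem_top _), hd.symm⟩
    rw [← card_map_of_injective (P : Subgroup G).subtype_injective, hmap, Nat.card_zpowers]
    exact orderOf_eq_prime hdq hd1

end CfsgLib.ThreeCop
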